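import Cfsg.Agent.H5.TP7
import Cfsg.Agent.H6.LinG4
import Cfsg.Agent.H24.Zsig

/-! Interface for S4881: linear `p'`-groups with two orbits on non-zero vectors (notes/PR.md). -/

set_option autoImplicit false

namespace H10.PR
open _root_.Cfsg Subgroup H19 H20 H6 H5.TP H24 H24.NF
open scoped Classical

universe u

/-- a faithful `p'`-group with exactly two orbits (those of `u` and `w`) on non-zero vectors -/
structure Two {G V : Type u} [Group G] {p : ℕ} [Fact p.Prime] [AddCommGroup V] [Module (ZMod p) V]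
    (ρ : G →* (V ≃ₗ[ZMod p] V)) (n : ℕ) (u w : V) : Prop where
  inj : Function.Injective ρ
  cop : ¬ p ∣ Nat.card G
  card : Nat.card V = p ^ n
  u0 : u ≠ 0
  w0 : w ≠ 0
  ne : ∀ g, ρ g u ≠ w
  all : ∀ v, v ≠ 0 → (∃ g, ρ g u = v) ∨ ∃ g, ρ g w = v

section
variable {G : Type u} [Group G] [Finite G]

/-- a faithful Frobenius-stable character of a `p'`-group -/
structure FC (χ : G → ℂ) (p n : ℕ) : Prop where
  pp : p.Prime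
  cop : ¬ p ∣ Nat.card G
  chr : χ ∈ Chr (⊤ : Subgroup G)
  fai : cker χ = ⊥
  dg : deg χ = n
  fr : ∀ g, χ (g ^ p) = χ g

/-- the lifted character of a module with two orbits of lengths `a`, `b` -/
structure Dat (χ : G → ℂ) (p n a b : ℕ) : Prop extends FC χ p n where
  sum : a + b + 1 = p ^ n
  da : a ∣ Nat.card G
  db : b ∣ Nat.card G
  orb : ∀ B : Subgroup G, dot B χ (triv B) ≠ 0 → a ∣ B.index ∨ b ∣ B.index
  nor : ∀ K : Subgroup G, K ⊴ ⊤ → dot K χ (triv K) ≠ 0 → K = ⊥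
  cen : ∀ (h : G) (f : ℕ), dot (zpowers h) χ (triv (zpowers h)) = f → p ^ f ≤ 2 * #C[h] + 1

/-- some element has an eigenvalue of order `p - 1` -/
def SC (χ : G → ℂ) (p : ℕ) : Prop :=
  ∃ (h : G) (i : Ch (zpowers h)), dot (zpowers h) χ i.fn ≠ 0 ∧ orderOf i = p - 1

/-- faithful irreducible quasi-primitive -/
def QP (χ : G → ℂ) : Prop := χ ∈ Irr (⊤ : Subgroup G) ∧ cker χ = ⊥ ∧
  ∀ M : Subgroup G, M ⊴ ⊤ → ∀ θ ∈ Irr M, dot M χ θ ≠ 0 → CInv ⊤ θ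

/-- number of conjugacy classes meeting `S` -/
noncomputable def cls (S : Set G) : ℕ := (ConjClasses.mk '' S).ncard
end

/-- primitive prime divisor -/
def Ppd (p d s : ℕ) : Prop := s.Prime ∧ s ∣ p ^ d - 1 ∧ ∀ i, 0 < i → i < d → ¬ s ∣ p ^ i - 1

def Main : Prop := ∀ (G V : Type u) [Group G] [Finite G] (p n : ℕ) [Fact p.Prime] [AddCommGroup V]
  [Module (ZMod p) V] [Finite V] (ρ : G →* (V ≃ₗ[ZMod p] V)) (u w : V),
  Two ρ n u w → 2 ≤ n → p ≤ 2 * kc G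

/-- the statement of S4881 -/
def Goal : Prop := ∀ (G : Type u) [Group G] [Finite G] (p : ℕ) [Fact p.Prime], IsPSolvable p G →
  Nat.card {c : ConjClasses G // ∃ g : G, ConjClasses.mk g = c ∧ ∃ k : ℕ, orderOf g = p ^ k} = 3 →
  p - 1 ≤ 2 * Nat.card (RC p G) ∧ (2 * Nat.card (RC p G) = p - 1 ↔ (p ≠ 2 ∧
    2 * Nat.card G = p * (p - 1) ∧ ∃ f : G →* ↥(affineGroup (ZMod p)), Function.Injective f))

def RD : Prop := Main.{u} → Goal.{u}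

def SR : Prop := ∀ (G V : Type u) [Group G] [Finite G] (p n : ℕ) [Fact p.Prime] [AddCommGroup V]
  [Module (ZMod p) V] [Finite V] (ρ : G →* (V ≃ₗ[ZMod p] V)) (u w : V), Two ρ n u w → p ≠ 2 →
  Odd n ∧ (St ρ u).index = (St ρ w).index ∨
  (∃ (h : G) (ω : (ZMod p)ˣ), orderOf ω = p - 1 ∧ ρ h u = (ω : ZMod p) • u) ∧ ∃ d, n = 2 * d ∧
    (p ^ d - 1 ∣ (St ρ u).index ∧ p ^ d - 1 ∣ (St ρ w).index ∨
      p ^ d + 1 ∣ (St ρ u).index ∧ p ^ d + 1 ∣ (St ρ w).index)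

/-- the Brauer lift with eigenvalue information -/
def LF1 : Prop := ∀ (G V : Type u) [Group G] [Finite G] (p : ℕ) [Fact p.Prime] [AddCommGroup V]
  [Module (ZMod p) V] [Finite V] (ρ : G →* (V ≃ₗ[ZMod p] V)), ¬ p ∣ Nat.card G →
  ∃ χ ∈ Chr (⊤ : Subgroup G), (∀ g, χ (g ^ p) = χ g) ∧
    (∀ B : Subgroup G, ∃ f : ℕ, dot B χ (triv B) = f ∧
      Nat.card {v : V // ∀ h ∈ B, ρ h v = v} = p ^ f) ∧
    ∀ (h : G) (ω : (ZMod p)ˣ) (v : V), v ≠ 0 → ρ h v = (ω : ZMod p) • v →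
      ∃ i : Ch (zpowers h), dot (zpowers h) χ i.fn ≠ 0 ∧ orderOf i = orderOf ω

def LF2 : Prop := ∀ (G V : Type u) [Group G] [Finite G] (p n : ℕ) [Fact p.Prime] [AddCommGroup V]
  [Module (ZMod p) V] [Finite V] (ρ : G →* (V ≃ₗ[ZMod p] V)) (u w : V) (χ : G → ℂ), Two ρ n u w →
  χ ∈ Chr (⊤ : Subgroup G) → (∀ g, χ (g ^ p) = χ g) →
  (∀ B : Subgroup G, ∃ f : ℕ, dot B χ (triv B) = f ∧
    Nat.card {v : V // ∀ h ∈ B, ρ h v = v} = p ^ f) → Dat χ p n (St ρ u).index (St ρ w).index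

/-- groups of degree two -/
def D2 : Prop := ∀ (G : Type u) [Group G] [Finite G] (T : Subgroup G) (θ : G → ℂ), θ ∈ Irr T →
  deg θ ≤ 2 → ∃ B ≤ T, B.relIndex T ≤ 2 ∧ ⁅B, B⁆ ≤ cker θ ∨ B.relIndex T ≤ 60 ∧ ⁅B, T⁆ ≤ cker θ

def NT : Prop := ∀ p d : ℕ, p.Prime → 11 ≤ p → 3 ≤ d →
  (∀ s j, s.Prime → ¬ s ∣ d → 1 ≤ j → s ^ j ∣ cycV d p →
    s ≤ 4 * d + 1 ∧ (s ^ j ≤ 4 * d ^ 2 + 1 ∨ d = 4 ∧ s = 5 ∧ s ^ j ≤ 4 * p)) →
  d = 4 ∧ (p = 13 ∨ p = 47) ∨ d = 6 ∧ (p = 17 ∨ p = 31)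

/-- the trichotomy for a primitive prime divisor -/
def TB : Prop := ∀ (G : Type u) [Group G] [Finite G] (χ : G → ℂ) (p n a b d s j : ℕ),
  Dat χ p n a b → 3 ≤ d → n = d ∨ n = 2 * d → Ppd p d s → 1 ≤ j → s ^ j ∣ a → s ^ j ∣ b →
  Nat.card G ≤ (if n = d then 1 else 60) * n ^ 4 * kc G ∨ n = 2 * d ∧ p ^ d ≤ 8 * d ^ 3 * kc G + 1 ∨
    s ≤ 2 * n + 1 ∧ (s ^ j ≤ n ^ 2 + 1 ∨ d = 4 ∧ s = 5 ∧ s ^ j ≤ n * kc G)

def AL : Prop := ∀ (G : Type u) [Group G] [Finite G] (χ : G → ℂ) (p n d s : ℕ) (P : Subgroup G),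
  FC χ p n → 2 ≤ d → 0 < n → n ≤ 2 * d → Ppd p d s → P ⊴ ⊤ → PG s P → dot P χ (triv P) = 0 →
  Nat.card G ≤ (if n < 2 * d then 1 else 60) * n ^ 4 * kc G

def BE : Prop := ∀ (G : Type u) [Group G] [Finite G] (χ : G → ℂ) (p a b d s j : ℕ) (y : G),
  Dat χ p (2 * d) a b → 2 ≤ d → Ppd p d s → s ^ j ∣ a → s ^ j ∣ b → d ^ 2 + 1 < s ^ j →
  orderOf y = s → dot (zpowers y) χ (triv (zpowers y)) ≠ 0 → p ^ d ≤ 8 * d ^ 3 * kc G + 1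

/-- cyclic Sylow subgroups -/
def CY : Prop := ∀ (G : Type u) [Group G] [Finite G] (χ : G → ℂ) (s : ℕ) (P : Subgroup G),
  χ ∈ Chr (⊤ : Subgroup G) → cker χ = ⊥ → s.Prime → Syl s P ⊤ → IsCyclic P →
  (∀ y ∈ P, orderOf y = s → C[y] ≤ N(P)) → deg χ ^ 2 + 1 < #P → P ⊴ ⊤

/-- small constituents -/
def SM : Prop := ∀ (G : Type u) [Group G] [Finite G] (χ : G → ℂ) (s : ℕ) (K P : Subgroup G),
  χ ∈ Chr (⊤ : Subgroup G) → cker χ = ⊥ → s.Prime → Syl s P K →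
  (∀ θ ∈ Irr K, dot K χ θ ≠ 0 → 2 * deg θ + 1 < s) → P ⊴ K

/-- dimension at least three, except the Latin square case in dimension four -/
def BG : Prop := ∀ (G : Type u) [Group G] [Finite G] (χ : G → ℂ) (p n a b : ℕ), Dat χ p n a b →
  11 ≤ p → 3 ≤ n → (Odd n ∧ a = b ∨ SC χ p ∧ 17 ≤ p ∧ ∃ d, n = 2 * d ∧
    (3 ≤ d ∧ p ^ d - 1 ∣ a ∧ p ^ d - 1 ∣ b ∨ p ^ d + 1 ∣ a ∧ p ^ d + 1 ∣ b)) → p ≤ 2 * kc G

/-- Blichfeldt's arc theorem -/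
def ARC : Prop := ∀ (G : Type u) [Group G] [Finite G] (χ : G → ℂ) (y : G) (s : Multiset ℂ) (c : ℂ),
  QP χ → Spec χ y s → (∀ z ∈ s, z ^ orderOf y = 1) → c ∈ s → (∀ z ∈ s, ‖z - c‖ < 1) → y ∈ center G

def AB6 : Prop := ∀ (G : Type u) [Group G] [Finite G] (χ : G → ℂ) (A : Subgroup G),
  QP χ → deg χ = 4 → Ab A → center G ≤ A → #A ≤ 216 * #(center G)

def S7 : Prop := ∀ (G : Type u) [Group G] [Finite G] (χ : G → ℂ),
  QP χ → deg χ = 4 → ¬ 7 ∣ #(center G) → ¬ 49 ∣ Nat.card G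

def cd (a b : ℕ) : ℕ := (a + b - 1) / b
def gam (z N : ℕ) : ℕ := if z = 1 ∧ 4 ∣ N then 3 else 2 * z
def AA (N l : ℕ) : ℕ := max l (if l = 2 then N.gcd 1024 / 8 else if l = 3 then N.gcd 243 / 3 else
  if l = 5 then N.gcd 125 else N.gcd 49)
def nn (z N ν l : ℕ) : ℕ := if l = 0 then z else if l = 1 then cd (z * (ν - 1)) 4 else
  if l ∣ ν ∨ ¬ l ∣ N then 0 else cd (z * (AA N l - 1)) 24
def gg (z N ν l : ℕ) : ℕ :=
  max (gam z N) (if l = 0 then z * N else if l = 1 then z * ν else z * AA N l)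
def Ok (z N ν k : ℕ) : Prop := ∑ l ∈ ({0, 1, 2, 3, 5, 7} : Finset ℕ), nn z N ν l ≤ k ∧
  (1 : ℚ) + ∑ l ∈ ({0, 1, 2, 3, 5, 7} : Finset ℕ),
    (nn z N ν l : ℚ) * (1 / gam z N - 1 / gg z N ν l) ≤ k / gam z N

def FIN : Prop := ∀ p t u z N k : ℕ, 11 ≤ p → t + u = p ^ 2 + 1 → z ∣ p - 1 →
  (p ^ 2 - 1) * t ∣ z * N → (p ^ 2 - 1) * u ∣ z * N → N ∣ 2 ^ 10 * 3 ^ 5 * 5 ^ 3 * 7 ^ 2 →
  (¬ 7 ∣ z → ¬ 49 ∣ N) → 2 * k < p → Ok z N 1 k → Ok z N ((p - 1) / z) k → False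

/-- the order modulo the centre and large abelian subgroups -/
def BD : Prop := ∀ (G : Type u) [Group G] [Finite G] (χ : G → ℂ), QP χ → deg χ = 4 →
  (center G).index ∣ 2 ^ 10 * 3 ^ 5 * 5 ^ 3 * 7 ^ 2 ∧ ∀ l ∈ ({2, 3, 5, 7} : Finset ℕ),
    l ∣ (center G).index → ∃ A : Subgroup G, center G ≤ A ∧ Ab A ∧ (∀ x ∈ A, ∃ j, x ^ l ^ j ∈ center G) ∧
      #(center G) * AA (center G).index l ≤ #A

def P4 : Prop := ∀ (G : Type u) [Group G] [Finite G] (χ : G → ℂ) (p a b : ℕ), Dat χ p 4 a b →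
  QP χ → SC χ p → 11 ≤ p → p ^ 2 - 1 ∣ a → p ^ 2 - 1 ∣ b → p ≤ 2 * kc G

/-- dimension four, not quasi-primitive -/
def I4 : Prop := ∀ (G : Type u) [Group G] [Finite G] (χ : G → ℂ) (p a b : ℕ), Dat χ p 4 a b →
  ¬ QP χ → 17 ≤ p → p ≤ 2 * kc G

end H10.PR
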