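import Cfsg.Agent.H10.PR.A0
import Cfsg.Agent.H24.ClassSize

/-! Kit for S4881: counting classes, diagonalising abelian subgroups. -/

set_option autoImplicit false
set_option linter.unusedSectionVars false

namespace H10.PR
open _root_.Cfsg Subgroup H19 H20 H6 H5.TP H24 H24.NF
open scoped Classical

universe u

variable {G : Type u} [Group G] [Finite G] {χ θ : G → ℂ} {A B K P T : Subgroup G} {S : Set G}
  {p n a b d s : ℕ} {x y : G}

theorem cls_le (S : Set G) : cls S ≤ kc G := Set.ncard_le_card _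

theorem cls_mono {S' : Set G} (h : S ⊆ S') : cls S ≤ cls S' :=
  Set.ncard_le_ncard (Set.image_mono h) (Set.toFinite _)

theorem cls_pos (h : x ∈ S) : 1 ≤ cls S :=
  (Set.ncard_pos (Set.toFinite _)).2 ⟨_, x, h, rfl⟩

theorem ncard_le_cls {X : Type*} (f : G → X) {r : ℕ}
    (h : ∀ x ∈ S, (f '' {y | y ∈ S ∧ IsConj x y}).ncard ≤ r) : (f '' S).ncard ≤ r * cls S := by
  choose! g h1 h2 using fun t (e : t ∈ f '' S) => e
  have hf := (Set.toFinite S).image f
  rw [Set.ncard_eq_toFinset_card _ hf, cls, Set.ncard_eq_toFinset_card _ (Set.toFinite _)]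
  refine Finset.card_le_mul_card_image_of_maps_to (f := fun t => ConjClasses.mk (g t))
    (fun t e => ?_) _ fun c e => ?_
  · simpa using ⟨_, h1 t (by simpa using e), rfl⟩
  obtain ⟨x, a1, rfl⟩ : c ∈ ConjClasses.mk '' S := by simpa using e
  refine le_trans ?_ (h x a1)
  rw [← Set.ncard_coe_finset]
  refine Set.ncard_le_ncard (fun t e => ?_) ((Set.toFinite _).image f)
  simp only [Finset.coe_filter, Set.Finite.mem_toFinset, Set.mem_ofPred_eq] at e
  exact ⟨g t, ⟨h1 t e.1, (ConjClasses.mk_eq_mk_iff_isConj.1 e.2).symm⟩, h2 t e.1⟩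

theorem card_le_cls {r : ℕ} (h : ∀ x ∈ S, {y | y ∈ S ∧ IsConj x y}.ncard ≤ r) :
    S.ncard ≤ r * cls S := by
  simpa using ncard_le_cls (S := S) id (by simpa using h)

theorem cent_isConj (h : IsConj x y) : #C[x] = #C[y] :=
  Nat.eq_of_mul_eq_mul_left (cs_pos x) (by rw [cs_mul_card, cs_eq_of_isConj h, cs_mul_card])

theorem sum_inv_cent [Fintype (ConjClasses G)] :
    ∑ c : ConjClasses G, (1 : ℚ) / #C[(Quotient.out c : G)] = 1 := by
  have := Fintype.ofFinite G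
  have h0 : (Nat.card G : ℚ) ≠ 0 := Nat.cast_ne_zero.2 Nat.card_pos.ne'
  have h1 := sum_conjClasses_card_eq_card G
  refine mul_left_cancel₀ h0 ?_
  rw [Finset.mul_sum, mul_one]
  conv_rhs => rw [Nat.card_eq_fintype_card, ← h1, Nat.cast_sum]
  refine Finset.sum_congr rfl fun c _ => ?_
  have h2 := card_carrier_mk (Quotient.out c : G)
  rw [show ConjClasses.mk (Quotient.out c : G) = c from Quotient.out_eq c] at h2
  rw [Set.toFinset_card, ← Nat.card_eq_fintype_card, h2, ← cs_mul_card (Quotient.out c : G),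
    Nat.cast_mul, mul_one_div, mul_div_cancel_right₀ _ (Nat.cast_ne_zero.2 (card_ne_zero _))]

/-- the class equation with labelled classes -/
theorem ce (lab : G → ℕ) (hl : ∀ x y, IsConj x y → lab x = lab y) (L : Finset ℕ) (m g : ℕ → ℕ)
    {γ : ℕ} (h0 : 0 < γ) (hγ : ∀ x : G, γ ≤ #C[x]) (hg : ∀ l ∈ L, γ ≤ g l)
    (hm : ∀ l ∈ L, m l ≤ cls {x | lab x = l ∧ g l ≤ #C[x]}) :
    ∑ l ∈ L, m l ≤ kc G ∧ (1 : ℚ) + ∑ l ∈ L, (m l : ℚ) * (1 / γ - 1 / g l) ≤ kc G / γ := by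
  have := Fintype.ofFinite (ConjClasses G)
  let F : ℕ → Finset (ConjClasses G) := fun l =>
    Finset.univ.filter fun c => lab c.out = l ∧ g l ≤ #C[(Quotient.out c : G)]
  have h1 : ∀ l ∈ L, m l ≤ (F l).card := fun l e => (hm l e).trans (by
    rw [← Set.ncard_coe_finset]
    refine Set.ncard_le_ncard ?_ (Set.toFinite _)
    rintro _ ⟨x, ⟨a1, a2⟩, rfl⟩
    have a3 : IsConj (Quotient.out (ConjClasses.mk x) : G) x :=
      ConjClasses.mk_eq_mk_iff_isConj.1 (Quotient.out_eq _)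
    simp only [F, Finset.coe_filter, Finset.mem_univ, true_and, Set.mem_ofPred_eq]
    exact ⟨(hl _ _ a3).trans a1, cent_isConj a3 ▸ a2⟩)
  have h2 : (L : Set ℕ).PairwiseDisjoint F := fun l _ l' _ e => Finset.disjoint_left.2 fun c a b =>
    e ((Finset.mem_filter.1 a).2.1.symm.trans (Finset.mem_filter.1 b).2.1)
  refine ⟨(Finset.sum_le_sum h1).trans ?_, ?_⟩
  · rw [← Finset.card_biUnion h2, kc, Nat.card_eq_fintype_card]
    exact Finset.card_le_univ _
  have h3 : ∀ {u v : ℕ}, γ ≤ u → u ≤ v → (1 : ℚ) / v ≤ 1 / u := fun a b =>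
    one_div_le_one_div_of_le (Nat.cast_pos.2 (h0.trans_le a)) (Nat.cast_le.2 b)
  have h4 : ∑ c ∈ L.biUnion F, ((1 : ℚ) / γ - 1 / #C[(Quotient.out c : G)]) ≤
      ∑ c : ConjClasses G, ((1 : ℚ) / γ - 1 / #C[(Quotient.out c : G)]) :=
    Finset.sum_le_sum_of_subset_of_nonneg (Finset.subset_univ _) fun c _ _ =>
      sub_nonneg.2 (h3 le_rfl (hγ _))
  rw [Finset.sum_biUnion h2, Finset.sum_sub_distrib (s := Finset.univ), sum_inv_cent, Finset.sum_const,
    Finset.card_univ, ← Nat.card_eq_fintype_card, nsmul_eq_mul, mul_one_div] at h4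
  refine add_le_of_le_sub_left (le_trans (Finset.sum_le_sum fun l e => ?_) h4)
  refine (mul_le_mul_of_nonneg_right (Nat.cast_le.2 (h1 l e)) (sub_nonneg.2 (h3 le_rfl (hg l e)))).trans ?_
  rw [← nsmul_eq_mul]
  exact Finset.card_nsmul_le_sum _ _ _ fun c a =>
    sub_le_sub_left (h3 (hg l e) (Finset.mem_filter.1 a).2.2) _

theorem kc_ge_cent (h : B ≤ C(K)) : #B ≤ K.index * kc G := by
  refine le_trans ?_ (Nat.mul_le_mul_left _ (cls_le (B : Set G)))
  refine card_le_cls fun x a => (Set.ncard_le_ncard (fun y e => e.2) (Set.toFinite _)).trans ?_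
  exact (ncard_isConj x).trans_le (Nat.le_of_dvd (Nat.pos_of_ne_zero FiniteIndex.index_ne_zero)
    (index_dvd_of_le (le_cent1_iff.2 (h a))))

theorem kc_ge_sq (h : Ab A) : Nat.card G ≤ A.index ^ 2 * kc G := by
  rw [← A.card_mul_index, pow_two, mul_assoc, mul_comm]
  exact Nat.mul_le_mul_left _ (kc_ge_cent (comm_iff_le_cent.1 h))

theorem spec_uniq {u v : Multiset ℂ} (hu : Spec χ x u) (hv : Spec χ x v) {M : ℕ} (hM : M ≠ 0)
    (h1 : ∀ z ∈ u, z ^ M = 1) (h2 : ∀ z ∈ v, z ^ M = 1) : u = v := by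
  have key : ∀ w : Multiset ℂ, (∀ z ∈ w, z ^ M = 1) → ∀ μ : ℂ, μ ^ M = 1 →
      ∑ k ∈ Finset.range M, (w.map (· ^ k)).sum * μ⁻¹ ^ k = M * w.count μ := fun w hw μ hμ => by
    have h0 : μ ≠ 0 := fun e => by simp [e, hM] at hμ
    induction w using Multiset.induction_on with
    | empty => simp
    | cons z w ih =>
      simp only [Multiset.map_cons, Multiset.sum_cons, add_mul, Finset.sum_add_distrib, ← mul_pow]
      rw [ih fun z e => hw z (Multiset.mem_cons_of_mem e)]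
      by_cases e : μ = z
      · subst e
        simp [h0]; ring
      · rw [Multiset.count_cons_of_ne e, geom_sum_eq (fun f => e (by field_simp at f; exact f.symm)),
          mul_pow, inv_pow, hμ, hw z (Multiset.mem_cons_self _ _)]
        simp
  refine Multiset.ext.2 fun μ => ?_
  by_cases e : μ ^ M = 1
  · have := (key u h1 μ e).symm.trans ((Finset.sum_congr rfl fun k _ => by
      rw [← hu k, hv k]).trans (key v h2 μ e))
    exact Nat.cast_injective (mul_left_cancel₀ (Nat.cast_ne_zero.2 hM) this)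
  · rw [Multiset.count_eq_zero.2 fun f => e (h1 μ f), Multiset.count_eq_zero.2 fun f => e (h2 μ f)]

/-- `l` diagonalises `χ` on `A` -/
def Di (χ : G → ℂ) (l : Fin n → Ch A) : Prop := ∀ y ∈ A, χ y = ∑ j, (l j).fn y

theorem exists_di (hχ : χ ∈ Chr (⊤ : Subgroup G)) (hn : deg χ = n) (hA : Ab A) :
    ∃ l : Fin n → Ch A, Di χ l := by
  obtain ⟨F, hF⟩ := H5.Cfsg.IsCharacter.exists_eq_sum_unitsHom
    (H5.Cfsg.IsCharacter.restrict (mem_Chr_top.1 hχ) A) hA.is_comm.comm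
  obtain ⟨L, rfl⟩ := Quotient.exists_rep F
  obtain rfl : L.length = n := Nat.cast_injective (R := ℂ) (by
    rw [← hn, ← chr_deg hχ]; simpa using (hF 1).symm)
  refine ⟨L.get, fun y hy => (hF ⟨y, hy⟩).trans ?_⟩
  simp only [Multiset.quot_mk_to_coe, Multiset.map_coe, Multiset.sum_coe]
  conv_lhs => rw [← List.ofFn_get L, List.map_ofFn, List.sum_ofFn]
  exact Finset.sum_congr rfl fun j _ => (Ch.fn_of_mem (L.get j) hy).symm

variable {l : Fin n → Ch A} {i i' : Ch A}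

theorem Di.dot (h : Di χ l) (i : Ch A) :
    dot A χ i.fn = (Finset.univ.filter fun j => l j = i).card := by
  rw [dot_congr_left (φ' := ∑ j, (l j).fn) fun x e _ => by rw [h x e, Finset.sum_apply], dot_sum_left]
  simp [Ch.dot_fn]

theorem Di.mem (h : Di χ l) : H20.dot A χ i.fn ≠ 0 ↔ ∃ j, l j = i := by
  simp [h.dot, Finset.filter_eq_empty_iff]

theorem Di.ne (h : Di χ l) (j : Fin n) : H20.dot A χ (l j).fn ≠ 0 := h.mem.2 ⟨j, rfl⟩

theorem fn_pow (i : Ch A) (hy : y ∈ A) (k : ℕ) : i.fn (y ^ k) = i.fn y ^ k := i.lin.map_pow hy k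

theorem fn_ord (i : Ch A) (hy : y ∈ A) : i.fn y ^ orderOf y = 1 := by
  rw [← fn_pow i hy, pow_orderOf_eq_one, Ch.fn_apply_one]

theorem fn_card (i : Ch A) (hy : y ∈ A) : i.fn y ^ Nat.card G = 1 := by
  rw [← fn_pow i hy, pow_card_eq_one', Ch.fn_apply_one]

theorem Di.spec (h : Di χ l) (hy : y ∈ A) : Spec χ y (Finset.univ.val.map fun j => (l j).fn y) :=
  fun k => by
    rw [h _ (pow_mem hy k), Multiset.map_map]
    exact Finset.sum_congr rfl fun j _ => fn_pow _ hy k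

theorem Di.conj (hχ : χ ∈ Chr (⊤ : Subgroup G)) (h : Di χ l) {l' : Fin n → Ch B} (h' : Di χ l')
    (hx : x ∈ A) (hy : y ∈ B) (e : IsConj x y) :
    ∃ σ : Equiv.Perm (Fin n), ∀ j, (l' j).fn y = (l (σ j)).fn x := by
  obtain ⟨g, rfl⟩ := isConj_iff.1 e
  have h1 := spec_uniq (h'.spec hy) ((h.spec hx).conj (mem_Chr_top.1 hχ) g) (M := Nat.card G)
    Nat.card_pos.ne' (by simpa using fun j => fn_card _ hy) (by simpa using fun j => fn_card _ hx)
  suffices h2 : ∀ c, Fintype.card {j // (l' j).fn (g * x * g⁻¹) = c} =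
      Fintype.card {j // (l j).fn x = c} from ⟨_, fun j => (Equiv.ofFiberEquiv_map (f := fun j =>
        (l' j).fn (g * x * g⁻¹)) (g := fun j => (l j).fn x) (fun c => Fintype.equivOfCardEq (h2 c)) j).symm⟩
  intro c
  have := congrArg (Multiset.count c) h1
  simp only [Multiset.count_map, eq_comm (a := c)] at this
  simp only [Fintype.card_subtype]
  exact this

theorem Di.one (hχ : χ ∈ Chr (⊤ : Subgroup G)) (hk : cker χ = ⊥) (h : Di χ l) (hy : y ∈ A)
    (e : ∀ j, (l j).fn y = 1) : y = 1 :=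
  mem_bot.1 (hk ▸ (chr_mem_cker hχ (mem_top y)).2 (by
    simp [h y hy, h 1 (one_mem _), e, Ch.fn_apply_one]))

theorem fn_eq_iff (i : Ch A) (hx : x ∈ A) (hy : y ∈ A) : i.fn (x * y⁻¹) = 1 ↔ i.fn x = i.fn y := by
  have := i.fn_map_mul (mul_mem hx (inv_mem hy)) hy
  rw [inv_mul_cancel_right] at this
  refine ⟨fun e => by rw [this, e, one_mul], fun e => mul_right_cancel₀ (i.fn_ne_zero hy) ?_⟩
  rw [← this, e, one_mul]

theorem Di.inj (hχ : χ ∈ Chr (⊤ : Subgroup G)) (hk : cker χ = ⊥) (h : Di χ l) (hx : x ∈ A)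
    (hy : y ∈ A) (e : ∀ j, (l j).fn x = (l j).fn y) : x = y :=
  mul_inv_eq_one.1 (h.one hχ hk (mul_mem hx (inv_mem hy)) fun j => (fn_eq_iff _ hx hy).2 (e j))

theorem cls_val (hχ : χ ∈ Chr (⊤ : Subgroup G)) (hn : deg χ = n) (hA : Ab A) (hS : S ⊆ A)
    (hi : dot A χ i.fn ≠ 0) : (i.fn '' S).ncard ≤ n * cls S := by
  obtain ⟨l, h⟩ := exists_di hχ hn hA
  obtain ⟨j, rfl⟩ := h.mem.1 hi
  refine ncard_le_cls _ fun x a => (Set.ncard_le_ncard (t := Set.range fun j => (l j).fn x) ?_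
    (Set.toFinite _)).trans ?_
  · rintro _ ⟨y, ⟨b, c⟩, rfl⟩
    obtain ⟨σ, e⟩ := h.conj hχ h (hS a) (hS b) c
    exact ⟨_, (e j).symm⟩
  · exact (Finite.card_range_le _).trans_eq (Nat.card_fin n)

theorem cls_pair (hχ : χ ∈ Chr (⊤ : Subgroup G)) (hn : deg χ = n) (hA : Ab A) (hS : S ⊆ A)
    (hi : dot A χ i.fn ≠ 0) (hi' : dot A χ i'.fn ≠ 0)
    (hf : ∀ x ∈ A, i.fn x = 1 → i'.fn x = 1 → x = 1) : S.ncard ≤ n ^ 2 * cls S := by
  obtain ⟨l, h⟩ := exists_di hχ hn hA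
  obtain ⟨j, rfl⟩ := h.mem.1 hi
  obtain ⟨j', rfl⟩ := h.mem.1 hi'
  refine card_le_cls fun x a => ?_
  choose! σ hσ using fun y (e : y ∈ {y | y ∈ S ∧ IsConj x y}) => h.conj hχ h (hS a) (hS e.1) e.2
  refine (Set.ncard_le_ncard_of_injOn (t := Set.univ) (fun y => (σ y j, σ y j')) (fun _ _ => trivial)
    fun y b z c e => ?_).trans_eq (by simp [pow_two])
  simp only [Prod.mk.injEq] at e
  refine mul_inv_eq_one.1 (hf _ (mul_mem (hS b.1) (inv_mem (hS c.1))) ?_ ?_) <;>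
    rw [fn_eq_iff _ (hS b.1) (hS c.1), hσ y b, hσ z c]
  exacts [by rw [e.1], by rw [e.2]]

theorem cls_fact (hχ : χ ∈ Chr (⊤ : Subgroup G)) (hk : cker χ = ⊥) (hn : deg χ = n) (hA : Ab A)
    (hS : S ⊆ A) : S.ncard ≤ n.factorial * cls S := by
  obtain ⟨l, h⟩ := exists_di hχ hn hA
  refine card_le_cls fun x a => ?_
  choose! σ hσ using fun y (e : y ∈ {y | y ∈ S ∧ IsConj x y}) => h.conj hχ h (hS a) (hS e.1) e.2
  exact (Set.ncard_le_ncard_of_injOn (t := Set.univ) σ (fun _ _ => trivial) fun y b z c e =>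
    h.inj hχ hk (hS b.1) (hS c.1) fun j => by rw [hσ y b, hσ z c, e]).trans_eq (by
      simp [Fintype.card_perm])

end H10.PR
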