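import Cfsg.Agent.H10.PR.K1
import Cfsg.Agent.H21.UC2

/-! Frobenius orbits of constituents. -/

set_option autoImplicit false
set_option linter.unusedSectionVars false

namespace H10.PR
open _root_.Cfsg Subgroup H19 H20 H6 H5.TP H24 H24.NF
open scoped Classical

universe u

variable {G : Type u} [Group G] [Finite G] {χ θ φ : G → ℂ} {A B K P T : Subgroup G} {S : Set G}
  {p n a b d s : ℕ} {x y : G} {O : Finset (G → ℂ)}

theorem FC.pow (h : FC χ p n) (t : ℕ) (g : G) : χ (g ^ p ^ t) = χ g := by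
  induction t with
  | zero => simp
  | succ t ih => rw [pow_succ, pow_mul, h.fr, ih]

theorem FC.aut (h : FC χ p n) (t : ℕ) : ∃ σ : ℂ →+* ℂ, aut σ χ = χ ∧
    ∀ (L : Subgroup G), ∀ θ ∈ ZIrr L, ∀ g, σ (θ g) = θ (g ^ p ^ t) := by
  obtain ⟨σ, -, e⟩ := exists_aut_of_coprime G ((h.pp.coprime_iff_not_dvd.2 h.cop).pow_left t)
  exact ⟨σ, funext fun g => (e _ _ (chr_zirr h.chr) g).trans (h.pow t g), e⟩

theorem sum_deg_le (hχ : χ ∈ Chr (⊤ : Subgroup G)) (hO : O ⊆ Irr K) (e : ∀ ψ ∈ O, dot K χ ψ ≠ 0) :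
    ∑ ψ ∈ O, deg ψ ≤ deg χ := by
  have h1 := chr_sub_sum (chr_Res hχ le_top) hO (by simpa only [dot_Res_left] using e)
  have h2 := chr_one_re h1
  rw [Pi.sub_apply, Res_one, chr_deg hχ, Finset.sum_apply,
    Finset.sum_congr rfl fun ψ a => H20.irr_deg (hO a), ← Nat.cast_sum, Complex.sub_re,
    Complex.natCast_re, Complex.natCast_re] at h2
  exact_mod_cast sub_nonneg.1 (h2.ge.trans' (Nat.cast_nonneg _))

theorem mem_of_full (hχ : χ ∈ Chr (⊤ : Subgroup G)) (hO : O ⊆ Irr K) (e : ∀ ψ ∈ O, dot K χ ψ ≠ 0)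
    (h : deg χ ≤ ∑ ψ ∈ O, deg ψ) (hφ : φ ∈ Irr K) (e' : dot K χ φ ≠ 0) : φ ∈ O := by_contra fun f => by
  have := sum_deg_le hχ (Finset.insert_subset hφ hO) (by simpa [e'] using e)
  rw [Finset.sum_insert f] at this
  have := H20.irr_deg_pos hφ
  omega

theorem Ppd.cop (h : Ppd p d s) (hd : 0 < d) (hp : 0 < p) : s.Coprime p :=
  h.1.coprime_iff_not_dvd.2 fun e => h.1.not_dvd_one
    ((Nat.dvd_sub_iff_right (Nat.one_le_pow _ _ hp) (dvd_pow e hd.ne')).1 h.2.1)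

theorem Ppd.dvd (h : Ppd p d s) (hd : 0 < d) (hp : 0 < p) : d ∣ s - 1 :=
  (dvd_of_prim hp hd h.1 h.2.1 h.2.2).2

theorem Ppd.lt (h : Ppd p d s) (hd : 0 < d) (hp : 0 < p) : d < s := by
  have := h.1.two_le
  have := Nat.le_of_dvd (by omega) (h.dvd hd hp)
  omega

theorem Ppd.inj (h : Ppd p d s) (hp : 0 < p) {ω : ℂ} {k : ℕ} (h1 : ω ^ s ^ k = 1) (h0 : ω ≠ 1)
    {t t' : ℕ} (ht : t < d) (ht' : t' < d) (e : ω ^ p ^ t = ω ^ p ^ t') : t = t' := by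
  wlog a : t < t' generalizing t t'
  · exact (eq_or_lt_of_not_gt a).elim Eq.symm fun b => (this ht' ht e.symm b).symm
  obtain ⟨c, rfl⟩ := Nat.exists_eq_add_of_lt a
  obtain ⟨j, -, b⟩ := (Nat.dvd_prime_pow h.1).1 (orderOf_dvd_of_pow_eq_one h1)
  have h2 : s ∣ orderOf ω := b ▸ dvd_pow_self s (by rintro rfl; exact h0 (by simpa using b))
  have h3 : ω ≠ 0 := by rintro rfl; simp [h.1.ne_zero] at h1
  have h4 : ω ^ (p ^ t * (p ^ (c + 1) - 1)) = 1 := mul_left_cancel₀ (pow_ne_zero (p ^ t) h3) (by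
    rw [← pow_add, mul_one, ← mul_one_add, Nat.add_sub_cancel' (Nat.one_le_pow _ _ hp), ← pow_add,
      ← add_assoc, e])
  exact absurd (((h.cop (by omega) hp).pow_right t).dvd_of_dvd_mul_left
    (h2.trans (orderOf_dvd_of_pow_eq_one h4))) (h.2.2 _ c.succ_pos (by omega))

/-- the Frobenius orbit of a constituent -/
theorem FC.fam (h : FC χ p n) (hs : Ppd p d s) (hθ : θ ∈ Irr K) (e : dot K χ θ ≠ 0) (hy : y ∈ K)
    (hc : K ≤ C[y]) (ho : PiE {s} y) (hk : y ∉ cker θ) : ∃ O ⊆ Irr K, O.card = d ∧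
      ∀ ψ ∈ O, dot K χ ψ ≠ 0 ∧ deg ψ = deg θ ∧ cker ψ = cker θ := by
  choose σ h1 h2 using h.aut
  obtain ⟨l, a1, -, a2⟩ := irr_Res_central hθ (zpowers_le.2 hy)
    ((commg_eq_bot.2 (cent_zpowers y ▸ hc)).le.trans bot_le)
  have a3 : ∀ k : ℕ, θ (y ^ k) = l y ^ k * θ 1 := fun k => by
    rw [← a1.map_pow (mem_zpowers y), ← a2 _ (pow_mem (mem_zpowers y) k), mul_one]
  obtain ⟨k, a4⟩ := ho.exists_pow (orderOf_pos y).ne'
  refine ⟨(Finset.range d).image fun t => H20.aut (σ t) θ, fun ψ a => ?_, ?_, fun ψ a => ?_⟩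
  · obtain ⟨t, -, rfl⟩ := Finset.mem_image.1 a
    exact irr_aut hθ _
  · rw [Finset.card_image_of_injOn fun t a t' b c => ?_, Finset.card_range]
    have := congrFun c y
    simp only [aut_apply, h2 _ _ _ (irr_zirr hθ), a3, mul_left_inj' (irr_one_ne hθ)] at this
    refine hs.inj h.pp.pos (k := k) (by rw [← a1.map_pow (mem_zpowers y), ← a4, pow_orderOf_eq_one, a1.one])
      (fun f => hk ((chr_mem_cker (irr_chr hθ) hy).2 (by simpa [f] using a3 1)))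
      (by simpa using a) (by simpa using b) this
  · obtain ⟨t, -, rfl⟩ := Finset.mem_image.1 a
    refine ⟨?_, deg_aut (irr_chr hθ) _, cker_aut _ _⟩
    rw [← h1 t, zirr_dot_aut _ (irr_zirr hθ)]
    exact (map_ne_zero _).2 e

theorem FC.mul_le (h : FC χ p n) (hs : Ppd p d s) (hθ : θ ∈ Irr K) (e : dot K χ θ ≠ 0) (hy : y ∈ K)
    (hc : K ≤ C[y]) (ho : PiE {s} y) (hk : y ∉ cker θ) : d * deg θ ≤ n := by
  obtain ⟨O, a, b, c⟩ := h.fam hs hθ e hy hc ho hk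
  have := sum_deg_le h.chr a fun ψ f => (c ψ f).1
  rwa [Finset.sum_congr rfl fun ψ f => (c ψ f).2.1, Finset.sum_const, b, h.dg] at this

theorem FC.add_le (h : FC χ p n) (hs : Ppd p d s) (hθ : θ ∈ Irr K) (e : dot K χ θ ≠ 0) (hy : y ∈ K)
    (hc : K ≤ C[y]) (ho : PiE {s} y) (hk : y ∉ cker θ) (hφ : φ ∈ Irr K) (e' : dot K χ φ ≠ 0)
    (hk' : cker φ ≠ cker θ) : deg φ + d * deg θ ≤ n := by
  obtain ⟨O, a, b, c⟩ := h.fam hs hθ e hy hc ho hk
  have := sum_deg_le h.chr (Finset.insert_subset hφ a) (by simpa [e'] using fun ψ f => (c ψ f).1)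
  rwa [Finset.sum_insert fun f => hk' (c φ f).2.2, Finset.sum_congr rfl fun ψ f => (c ψ f).2.1,
    Finset.sum_const, b, h.dg] at this

theorem exists_not_cker (hχ : χ ∈ Chr (⊤ : Subgroup G)) (hk : cker χ = ⊥) (hy : y ∈ K) (h1 : y ≠ 1) :
    ∃ θ ∈ Irr K, dot K χ θ ≠ 0 ∧ y ∉ cker θ := by
  by_contra! e
  exact h1 (mem_bot.1 (hk ▸ le_cker_of_below' hχ le_top (zpowers_le.2 hy)
    (fun θ a b => zpowers_le.2 (e θ a b)) (mem_zpowers y)))

theorem ab_of_lin (hχ : χ ∈ Chr (⊤ : Subgroup G)) (hk : cker χ = ⊥)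
    (h : ∀ θ ∈ Irr K, dot K χ θ ≠ 0 → deg θ = 1) : Ab K :=
  comm_iff_der.2 (le_bot_iff.1 (hk ▸ le_cker_of_below' hχ le_top (der_le K)
    fun θ a b => (der_le_cker a).2 (h θ a b)))

theorem FC.ab (h : FC χ p n) (hs : Ppd p d s) (h2 : 2 ≤ d) (hn : n ≤ 2 * d) (hP : PG s P) : Ab P := by
  by_cases h0 : P = ⊥
  · exact h0 ▸ comm_bot
  obtain ⟨y, ⟨a1, a2⟩, a3⟩ := exists_ne_one (hP.center_ne_bot h0)
  have a4 := le_cent1_iff.2 a2
  refine ab_of_lin h.chr h.fai fun θ a b => ?_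
  have h1 := hs.lt (by omega) h.pp.pos
  have h3 : deg θ < s := by
    by_cases e : y ∈ cker θ
    · obtain ⟨φ, c1, c2, c3⟩ := exists_not_cker h.chr h.fai a1 a3
      have := h.add_le hs c1 c2 a1 a4 (hP.elt a1) c3 a b fun f => c3 (f ▸ e)
      have := Nat.mul_le_mul_left d (H20.irr_deg_pos c1)
      omega
    · have := (h.mul_le hs a b a1 a4 (hP.elt a1) e).trans (hn.trans (mul_comm 2 d).le)
      have := Nat.le_of_mul_le_mul_left this (by omega)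
      omega
  by_contra e
  exact (Nat.le_of_dvd (H20.irr_deg_pos a) ((hP.dvd (irr_deg_dvd a)).dvd_of_ne_one e).2).not_gt h3

theorem cker_fn (i : Ch A) : x ∈ cker i.fn ↔ x ∈ A ∧ i.fn x = 1 :=
  ⟨fun e => ⟨irr_cker_le i.irr e, (i.lin.mem_cker (irr_cker_le i.irr e)).1 e⟩,
    fun e => (i.lin.mem_cker e.1).2 e.2⟩

theorem exists_not_ker (hθ : θ ∈ Irr K) (e : dot K χ θ ≠ 0) (hχ : χ ∈ Chr (⊤ : Subgroup G))
    (hP : P ≤ K) (h0 : dot P χ (triv P) = 0) : ∃ y ∈ P, y ∉ cker θ := by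
  by_contra! f
  refine dot_ne_trans (chr_Res hχ le_top) hθ hP (triv_mem_Chr P) (by rwa [dot_Res_left])
    (by rw [dot_triv_of_le_cker f]; exact irr_one_ne hθ) ?_
  rwa [← dot_Res_left, Res_Res hP, dot_Res_left]

/-- two jointly faithful constituents -/
theorem FC.two (h : FC χ p n) (hs : Ppd p d s) (h0 : 0 < n) (hn : n ≤ 2 * d) (hT : Ab T) (hP : P ≤ T)
    (hp : PG s P) (e : dot P χ (triv P) = 0) : ∃ i i' : Ch T, dot T χ i.fn ≠ 0 ∧ dot T χ i'.fn ≠ 0 ∧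
      (∀ x ∈ T, i.fn x = 1 → i'.fn x = 1 → x = 1) ∧ (n < 2 * d → i' = i) := by
  obtain ⟨l, hl⟩ := exists_di h.chr h.dg hT
  have key : ∀ j, ∃ O ⊆ Irr T, O.card = d ∧
      ∀ ψ ∈ O, dot T χ ψ ≠ 0 ∧ deg ψ = deg (l j).fn ∧ cker ψ = cker (l j).fn := fun j => by
    obtain ⟨y, a, b⟩ := exists_not_ker (l j).irr (hl.ne j) h.chr hP e
    exact h.fam hs (l j).irr (hl.ne j) (hP a) (le_cent1_iff.2 (comm_iff_le_cent.1 hT (hP a))) (hp.elt a) b
  by_cases c : ∀ j, cker (l j).fn = cker (l ⟨0, h0⟩).fn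
  · exact ⟨_, _, hl.ne ⟨0, h0⟩, hl.ne ⟨0, h0⟩, fun x a b _ => hl.one h.chr h.fai a fun j =>
      ((cker_fn _).1 (c j ▸ (cker_fn _).2 ⟨a, b⟩)).2, fun _ => rfl⟩
  obtain ⟨j, c⟩ := not_forall.1 c
  obtain ⟨O, a1, a2, a3⟩ := key ⟨0, h0⟩
  obtain ⟨O', b1, b2, b3⟩ := key j
  have c1 : ∑ ψ ∈ O ∪ O', deg ψ = 2 * d := by
    rw [Finset.sum_union (Finset.disjoint_left.2 fun ψ u v => c ((b3 ψ v).2.2.symm.trans (a3 ψ u).2.2)),
      Finset.sum_congr rfl fun ψ u => (a3 ψ u).2.1, Finset.sum_congr rfl fun ψ u => (b3 ψ u).2.1]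
    simp [(Ch.lin _).deg, a2, b2, two_mul]
  have c2 : ∀ ψ ∈ O ∪ O', dot T χ ψ ≠ 0 := fun ψ u =>
    (Finset.mem_union.1 u).elim (fun v => (a3 ψ v).1) fun v => (b3 ψ v).1
  refine ⟨_, _, hl.ne ⟨0, h0⟩, hl.ne j, fun x a b b' => hl.one h.chr h.fai a fun k => ((cker_fn _).1 ?_).2,
    fun f => absurd (sum_deg_le h.chr (Finset.union_subset a1 b1) c2) (by rw [c1, h.dg]; omega)⟩
  rcases Finset.mem_union.1 (mem_of_full h.chr (Finset.union_subset a1 b1) c2 (by rw [c1, h.dg]; exact hn)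
    (l k).irr (hl.ne k)) with u | u
  exacts [(a3 _ u).2.2 ▸ (cker_fn _).2 ⟨a, b⟩, (b3 _ u).2.2 ▸ (cker_fn _).2 ⟨a, b'⟩]

theorem index_inertia (hχ : χ ∈ Chr (⊤ : Subgroup G)) (hK : K ⊴ ⊤) (hθ : θ ∈ Irr K)
    (e : dot K χ θ ≠ 0) : (inertia ⊤ θ).index ≤ deg χ := by
  rw [← relIndex_top_right, ← card_orb]
  refine le_trans ?_ (sum_deg_le hχ (orb_subset_irr hθ hK.norm) fun ψ a => by
    rwa [dot_cfj_below (chr_cinv hχ) hK.norm a])
  rw [Finset.card_eq_sum_ones]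
  exact Finset.sum_le_sum fun ψ a => H20.irr_deg_pos (orb_irr hθ hK.norm a)

theorem FC.index_cent (h : FC χ p n) (hs : Ppd p d s) (h2 : 2 ≤ d) (h0 : 0 < n) (hn : n ≤ 2 * d)
    (hP : P ⊴ ⊤) (hp : PG s P) (e : dot P χ (triv P) = 0) :
    C(P).index ≤ n * if n < 2 * d then 1 else n := by
  obtain ⟨i, i', a1, a2, a3, a4⟩ := h.two hs h0 hn (h.ab hs h2 hn hp) le_rfl hp e
  have h1 : inertia ⊤ i.fn ⊓ inertia ⊤ i'.fn ≤ C(P) := fun g ⟨b1, b2⟩ => mem_cent.2 fun x b => by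
    have c := hP.conj_mem (mem_top g) b
    have := a3 _ (mul_mem c (inv_mem b)) ((fn_eq_iff _ c b).2 (congrFun (mem_inertia.1 b1).2 x))
      ((fn_eq_iff _ c b).2 (congrFun (mem_inertia.1 b2).2 x))
    rw [mul_inv_eq_one, mul_inv_eq_iff_eq_mul] at this
    exact this.symm
  have h3 := h.dg ▸ index_inertia h.chr hP i.irr a1
  refine (index_antitone h1).trans ?_
  split_ifs with c
  · rwa [a4 c, inf_idem, mul_one]
  · exact index_inf_le.trans (Nat.mul_le_mul h3 (h.dg ▸ index_inertia h.chr hP i'.irr a2))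

theorem FC.n1 (h : FC χ p d) (hs : Ppd p d s) (h2 : 2 ≤ d) (hP : Syl s P ⊤) (hc : d ^ 2 + 1 < #P) :
    P ⊴ ⊤ := by
  have := Fact.mk hs.1
  obtain ⟨S, rfl⟩ := hP.exists_sylow_top
  have h1 := comm_iff_le_cent.1 (h.ab hs h2 (by omega) hP.pi)
  have := H21.feit_normal S (fun x a b => le_antisymm (cents_of_comm (K := C[x]) ?_ le_rfl
    (le_cent1_iff.2 (h1 a))) (cent_le_cent1 a)) (mem_Chr_top.1 h.chr)
    (fun g e => mem_bot.1 (h.fai ▸ (chr_mem_cker h.chr (mem_top g)).2 e)) (h.dg ▸ hc :)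
  · exact normalIn_top
  refine ab_of_lin h.chr h.fai fun θ c e => ?_
  have c1 := H20.irr_deg_pos c
  by_cases f : x ∈ cker θ
  · obtain ⟨φ, c2, c3, c4⟩ := exists_not_cker h.chr h.fai (mem_cent1_self x) b
    have := h.add_le hs c2 c3 (mem_cent1_self x) le_rfl (hP.pi.elt a) c4 c e fun g => c4 (g ▸ f)
    have := Nat.mul_le_mul_left d (H20.irr_deg_pos c2)
    omega
  · have := h.mul_le hs c e (mem_cent1_self x) le_rfl (hP.pi.elt a) f
    exact le_antisymm (Nat.le_of_mul_le_mul_left (this.trans (mul_one d).ge) (by omega)) c1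

end H10.PR
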