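import Cfsg.Agent.H10.PR.K2
import Cfsg.Agent.H5.FTB2

/-! Lower bounds for the class number; normal Sylow subgroups. -/

set_option autoImplicit false
set_option linter.unusedSectionVars false

namespace H10.PR
open _root_.Cfsg Subgroup H19 H20 H6 H5.TP H24 H24.NF
open scoped Classical

universe u

variable {G : Type u} [Group G] [Finite G] {χ θ φ : G → ℂ} {A B K P T : Subgroup G} {S : Set G}
  {p n a b d s j m : ℕ} {x y h : G}

theorem triv_ne (hχ : χ ∈ Chr (⊤ : Subgroup G)) (hθ : θ ∈ Irr K) (e : dot K χ θ ≠ 0)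
    (hB : B ≤ cker θ) : dot B χ (triv B) ≠ 0 := fun f =>
  have ⟨_, a, b⟩ := exists_not_ker hθ e hχ (hB.trans (irr_cker_le hθ)) f
  b (hB a)

theorem card_img (i : Ch A) : (i.fn '' A).ncard = (cker i.fn).relIndex A := by
  have h1 : (cker i.fn).subgroupOf A = i.hom.ker := by
    ext x
    simp [mem_subgroupOf, cker_fn, Ch.fn_of_mem i x.2]
  have h2 : i.fn '' A = Units.val '' (i.hom.range : Set ℂˣ) := Set.ext fun z =>
    ⟨fun ⟨x, a, b⟩ => ⟨_, ⟨⟨x, a⟩, rfl⟩, (Ch.fn_of_mem i a).symm.trans b⟩,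
      fun ⟨_, ⟨x, a⟩, b⟩ => ⟨x, x.2, (Ch.fn_of_mem i x.2).trans (a ▸ b)⟩⟩
  rw [relIndex, h1, index_ker, h2, Set.ncard_image_of_injective _ Units.val_injective]
  rfl

theorem Dat.dvd (h : Dat χ p n a b) (hB : B ≤ A) (e : dot B χ (triv B) ≠ 0) (ha : m ∣ a) (hb : m ∣ b)
    (hc : m.Coprime A.index) : m ∣ B.relIndex A :=
  hc.dvd_of_dvd_mul_right (relIndex_mul_index hB ▸ (h.orb B e).elim ha.trans hb.trans)

theorem Dat.hl (h : Dat χ p n a b) (h0 : 0 < n) (hA : Ab A) (ha : m ∣ a) (hb : m ∣ b)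
    (hc : m.Coprime A.index) : m ≤ n * kc G := by
  obtain ⟨l, hl⟩ := exists_di h.chr h.dg hA
  have h1 := hl.ne ⟨0, h0⟩
  exact (Nat.le_of_dvd (relIndex_pos _ _) (h.dvd (irr_cker_le (Ch.irr _)) (triv_ne h.chr (Ch.irr _) h1
    le_rfl) ha hb hc)).trans ((card_img _).ge.trans ((cls_val h.chr h.dg hA subset_rfl h1).trans
      (Nat.mul_le_mul_left _ (cls_le _))))

theorem Dat.hl' (h : Dat χ p n a b) (h0 : 0 < n) (ha : m ∣ a) (hb : m ∣ b)
    (hm : ∀ q, q.Prime → q ∣ m → n + 1 < q) : m ≤ n * kc G := by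
  obtain ⟨A, hA⟩ := blichfeldt (π := {q | n + 1 < q}) (fun q a _ => a) h.chr h.dg.le (by simp [h.fai])
  refine h.hl h0 (comm_iff_der.2 (le_bot_iff.1 (h.fai ▸ der_le_cker_of_lt h.chr le_top fun q a b => ?_)))
    ha hb (PiN.coprime hm (relIndex_top_right A ▸ hA.idx))
  have : n + 1 < q := hA.pi q a b
  rw [h.dg]; omega

theorem Dat.size (h : Dat χ p n a b) : p ^ n ≤ 2 * Nat.card G + 1 := by
  have := Nat.le_of_dvd Nat.card_pos h.da
  have := Nat.le_of_dvd Nat.card_pos h.db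
  have := h.sum
  omega

theorem Dat.nf (h : Dat χ p n a b) (hP : Syl s P ⊤) (hs : s.Prime) (ha : s ∣ a) (hb : s ∣ b) :
    dot P χ (triv P) = 0 := by_contra fun e => hs.not_dvd_one (relIndex_self P ▸ h.dvd le_rfl e ha hb
      (hs.coprime_iff_not_dvd.2 (relIndex_top_right P ▸ hP.not_dvd hs)))

theorem ord_fn (i : Ch (zpowers h)) : orderOf (i.fn h) = orderOf i :=
  orderOf_eq_orderOf_iff.2 fun k => by
    rw [Ch.eq_one_iff, ← Ch.fn_pow_apply i k (mem_zpowers h)]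
    refine ⟨fun e x a => ?_, fun e => e _ (mem_zpowers h)⟩
    obtain ⟨t, rfl⟩ := (mem_zpowers_iff_mem_range_orderOf.1 a |> Finset.mem_image.1 |>.imp fun _ => And.right)
    rw [fn_pow _ (mem_zpowers h), e, one_pow]

theorem ex_ord (e : m ∣ orderOf h) : ∃ x : G, orderOf x = m ∧ orderOf h ≤ #C[x] :=
  ⟨_, orderOf_pow_orderOf_div (orderOf_pos h).ne' e, (Nat.card_zpowers h).ge.trans
    (card_le ((zpowers_le.2 (mem_cent1_self h)).trans (cent1_le_cent1_pow _ _)))⟩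

theorem ex_prime (hs : s.Prime) (e : s ∣ Nat.card G) : ∃ x : G, orderOf x = s ∧ s ≤ #C[x] := by
  obtain ⟨x, rfl⟩ := exists_prime_orderOf_dvd_card' (hp := ⟨hs⟩) s e
  exact ex_ord dvd_rfl

theorem SC.ord (e : SC χ p) : ∃ h : G, p - 1 ∣ orderOf h :=
  have ⟨h, i, _, a⟩ := e
  ⟨h, a ▸ Nat.card_zpowers h ▸ i.orderOf_dvd⟩

theorem two_le_cent (h2 : 2 ≤ Nat.card G) (x : G) : 2 ≤ #C[x] := by
  by_cases e : x = 1
  · rwa [e, cent1_one, card_top]
  · exact ne_bot_iff_one_lt_card.1 (ne_bot_of_mem (mem_cent1_self x) e)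

theorem ko (L : Finset ℕ) (g : ℕ → ℕ) (h2 : 2 ≤ Nat.card G) (hg : ∀ l ∈ L, 2 ≤ g l)
    (h : ∀ l ∈ L, ∃ x : G, orderOf x = l ∧ g l ≤ #C[x]) :
    (1 : ℚ) + ∑ l ∈ L, (1 / 2 - 1 / (g l : ℚ)) ≤ kc G / 2 := by
  simpa using (ce orderOf (fun _ _ => orderOf_eq_of_isConj) L (fun _ => 1) g two_pos (two_le_cent h2) hg
    fun l e => have ⟨_, a⟩ := h l e; cls_pos a).2

theorem four_le_kc (h : 7 ≤ Nat.card G) : 4 ≤ kc G := by
  obtain ⟨x, a, b⟩ : ∃ x : G, x ≠ 1 ∧ 3 ≤ #C[x] := by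
    by_contra! e
    have h1 : ∀ x : G, x * x = 1 := fun x => by
      by_cases f : x = 1
      · simp [f]
      obtain ⟨y, c, d⟩ := ex_ord (dvd_refl (orderOf x))
      have := e y fun g => f (by simpa [g] using c.symm)
      have := orderOf_pos x
      have := mt orderOf_eq_one_iff.1 f
      rw [← pow_two, ← show orderOf x = 2 by omega, pow_orderOf_eq_one]
    obtain ⟨x, -, a⟩ := exists_ne_one (ne_bot_iff_one_lt_card.2 (show 1 < #(⊤ : Subgroup G) by
      rw [card_top]; omega))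
    have := e x a
    rw [show C[x] = ⊤ from eq_top_iff.2 fun y _ => mem_cent1.2 (by
      rw [← inv_eq_of_mul_eq_one_right (h1 (y * x)), mul_inv_rev, inv_eq_of_mul_eq_one_right (h1 x),
        inv_eq_of_mul_eq_one_right (h1 y)]), card_top] at this
    omega
  have h1 := mt orderOf_eq_one_iff.1 a
  have := ko (G := G) {1, orderOf x} (fun l => if l = 1 then 7 else 3) (by omega) (fun l _ => by split_ifs <;> omega)
    (by simpa [h1] using ⟨by simpa, x, rfl, b⟩)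
  rw [Finset.sum_pair (Ne.symm h1)] at this
  simp only [h1, if_true, if_false] at this
  by_contra! e
  have h3 : (kc G : ℚ) ≤ 3 := by exact_mod_cast Nat.le_of_lt_succ e
  norm_num at this
  linarith

theorem SC.ko (e : SC χ p) (hp : p = 11 ∨ p = 13) : p ≤ 2 * kc G := by
  obtain ⟨h, e⟩ := e.ord
  have h1 := Nat.le_of_dvd (orderOf_pos h) e
  have := PR.ko (G := G) (p - 1).divisors (fun _ => p - 1) (le_trans (by omega) (h1.trans orderOf_le_card))
    (fun _ _ => by omega) fun l a => (ex_ord ((Nat.dvd_of_mem_divisors a).trans e)).imp fun _ =>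
      And.imp_right h1.trans
  by_contra! f
  have f' : (2 * kc G + 1 : ℚ) ≤ p := by exact_mod_cast f
  rcases hp with rfl | rfl <;> simp only [Finset.sum_const] at this
  · rw [show (Nat.divisors (11 - 1)).card = 4 by decide] at this; norm_num at *; linarith
  · rw [show (Nat.divisors (13 - 1)).card = 6 by decide] at this; norm_num at *; linarith

theorem SC.ko17 (e : SC χ 17) (h : 273 ∣ Nat.card G) : 17 ≤ 2 * kc G := by
  obtain ⟨x, e⟩ := e.ord
  have h1 := Nat.le_of_dvd (orderOf_pos x) e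
  have h2 : ∀ l, l ∣ 16 → ∃ y : G, orderOf y = l ∧ 16 ≤ #C[y] := fun l a =>
    (ex_ord (a.trans e)).imp fun _ => And.imp_right h1.trans
  have := PR.ko (G := G) {1, 2, 4, 8, 16, 3, 7, 13} (fun l => if l ∣ 16 then 16 else l)
    (le_trans (by omega) (Nat.le_of_dvd Nat.card_pos h)) (by decide) (by
      simp only [Finset.mem_insert, Finset.mem_singleton]
      rintro _ (rfl | rfl | rfl | rfl | rfl | rfl | rfl | rfl) <;>
        first | exact h2 _ (by decide) | exact ex_prime (by norm_num) (.trans (by decide) h))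
  by_contra! f
  have h3 : (kc G : ℚ) ≤ 8 := by exact_mod_cast (by omega : kc G ≤ 8)
  norm_num at this
  linarith

theorem cls_lt (e : A ≠ ⊤) : cls (A : Set G) < kc G := by
  obtain ⟨x, a⟩ := exists_not_mem_conj e
  refine Set.ncard_lt_card fun f => ?_
  obtain ⟨y, b, c⟩ : ConjClasses.mk x ∈ ConjClasses.mk '' (A : Set G) := f ▸ trivial
  obtain ⟨g, rfl⟩ := isConj_iff.1 (ConjClasses.mk_eq_mk_iff_isConj.1 c)
  exact a g (by simpa [mul_assoc] using b)

theorem card_img' (i : Ch (zpowers h)) : orderOf i ≤ (i.fn '' zpowers h).ncard := by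
  rw [← ord_fn]
  simpa using Set.ncard_le_ncard_of_injOn (t := i.fn '' zpowers h) _ (fun k _ =>
    ⟨_, pow_mem (mem_zpowers h) k, fn_pow i (mem_zpowers h) k⟩) pow_injOn_Iio_orderOf

theorem Dat.n2 (h : Dat χ p 2 a b) (e : SC χ p) (h3 : 3 ≤ p) : p ≤ 2 * kc G := by
  obtain ⟨x, i, a1, a2⟩ := e
  have h1 := (card_img' i).trans (cls_val h.chr h.dg (comm_zpowers x) subset_rfl a1)
  by_cases f : zpowers x = ⊤
  · have := h.size
    rw [kc_of_comm (f ▸ comm_zpowers x)]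
    nlinarith
  · have := cls_lt f
    omega

theorem al (h2 : D2.{u}) : AL.{u} := fun G _ _ χ p n d s P h hd h0 hn hs hP hp e => by
  have h1 := comm_iff_le_cent.1 (h.ab hs hd hn hp)
  have h3 := h.index_cent hs hd h0 hn hP hp e
  have h4 : C(P).index ^ 2 ≤ n ^ 4 := (Nat.pow_le_pow_left (h3.trans (Nat.mul_le_mul_left n (m := n)
    (by split_ifs <;> omega))) 2).trans_eq (by ring)
  by_cases c : ∀ θ ∈ Irr C(P), dot C(P) χ θ ≠ 0 → deg θ = 1
  · refine (kc_ge_sq (ab_of_lin h.chr h.fai c)).trans (Nat.mul_le_mul_right _ (h4.trans ?_))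
    exact Nat.le_mul_of_pos_left _ (by split_ifs <;> omega)
  simp only [not_forall] at c
  obtain ⟨θ, a1, a2, a3⟩ := c
  obtain ⟨y, b1, b2⟩ := exists_not_ker a1 a2 h.chr h1 e
  have b3 := H20.irr_deg_pos a1
  have b4 := h.mul_le hs a1 a2 (h1 b1) (cent_le_cent1 b1) (hp.elt b1) b2
  have b5 : deg θ = 2 := by
    have := Nat.le_of_mul_le_mul_left (b4.trans (hn.trans (mul_comm 2 d).le)) (by omega)
    omega
  rw [if_neg (by rw [b5] at b4; omega)]
  obtain ⟨O, c1, c2, c3⟩ := h.fam hs a1 a2 (h1 b1) (cent_le_cent1 b1) (hp.elt b1) b2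
  have b6 : cker θ ≤ ⊥ := h.fai ▸ le_cker_of_below' h.chr le_top (irr_cker_le a1) fun φ u v =>
    (c3 φ (mem_of_full h.chr c1 (fun ψ w => (c3 ψ w).1) (by
      rw [Finset.sum_congr rfl fun ψ w => (c3 ψ w).2.1, Finset.sum_const, c2, b5, h.dg, smul_eq_mul]
      omega) u v)).2.2.ge
  obtain ⟨B, f1, ⟨f2, f3⟩ | ⟨f2, f3⟩⟩ := h2 G _ θ a1 b5.le
  · refine (kc_ge_sq (comm_iff_der.2 (le_bot_iff.1 (f3.trans b6)))).trans (Nat.mul_le_mul_right _ ?_)
    rw [← relIndex_mul_index f1, mul_pow]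
    exact Nat.mul_le_mul ((Nat.pow_le_pow_left f2 2).trans (by norm_num)) h4
  · have := kc_ge_cent (commg_eq_bot.1 (le_bot_iff.1 (f3.trans b6)))
    rw [← B.card_mul_index, ← relIndex_mul_index f1]
    calc _ ≤ C(P).index * kc G * (60 * C(P).index) := Nat.mul_le_mul this (Nat.mul_le_mul_right _ f2)
      _ = 60 * C(P).index ^ 2 * kc G := by ring
      _ ≤ _ := Nat.mul_le_mul_right _ (Nat.mul_le_mul_left _ h4)

end H10.PR
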