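import Cfsg.Agent.H10.PR.K3

/-! Primitive prime divisors: the trichotomy. -/

set_option autoImplicit false
set_option linter.unusedSectionVars false

namespace H10.PR
open _root_.Cfsg Subgroup H19 H20 H6 H5.TP H24 H24.NF
open scoped Classical

universe u

variable {G : Type u} [Group G] [Finite G] {χ θ φ ψ : G → ℂ} {A B K P T : Subgroup G} {S : Set G}
  {p n a b d s j m : ℕ} {x y h : G}

theorem FC.dd (h : FC χ p n) (hs : Ppd p d s) (h2 : 2 ≤ d) (hn : n ≤ d) (hP : Syl s P ⊤)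
    (hc : d ^ 2 + 1 < #P) : n = d ∧ Ab C(P) ∧ P ≤ C(P) ∧ C(P).index ≤ d := by
  obtain ⟨y, a1, a2⟩ := exists_ne_one (ne_bot_iff_one_lt_card.2 (show 1 < #P by omega))
  have h1 := comm_iff_le_cent.1 (h.ab hs h2 (by omega) hP.pi)
  obtain ⟨θ, b1, b2, b3⟩ := exists_not_cker h.chr h.fai a1 a2
  have b4 := Nat.mul_le_mul_left d (H20.irr_deg_pos b1)
  have b5 := le_cent1_iff.2 (h1 a1)
  obtain rfl : n = d := by have := h.mul_le hs b1 b2 a1 b5 (hP.pi.elt a1) b3; omega
  have e : dot P χ (triv P) = 0 := by_contra fun e => by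
    have := h.add_le hs b1 b2 a1 b5 (hP.pi.elt a1) b3 (triv_mem_Irr P) e
      fun f => b3 (by rwa [← f, cker_triv])
    rw [deg_triv] at this
    omega
  refine ⟨rfl, ab_of_lin h.chr h.fai fun φ c f => ?_, h1, by
    simpa [show n < 2 * n by omega] using h.index_cent hs h2 (by omega) (by omega) (h.n1 hs h2 hP hc) hP.pi e⟩
  obtain ⟨z, c1, c2⟩ := exists_not_ker c f h.chr h1 e
  exact le_antisymm (Nat.le_of_mul_le_mul_left ((h.mul_le hs c f (h1 c1) (cent_le_cent1 c1)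
    (hP.pi.elt c1) c2).trans (mul_one n).ge) (by omega)) (H20.irr_deg_pos c)

theorem dd' (hψ : ψ ∈ Chr K) (hp : p.Prime) (hG : ¬ p ∣ Nat.card G) (hf : ∀ g ∈ K, ψ (g ^ p) = ψ g)
    (hs : Ppd p d s) (h2 : 2 ≤ d) (hn : deg ψ ≤ d) (hP : Syl s P K)
    (hc : d ^ 2 + 1 < (cker ψ).relIndex P) :
    deg ψ = d ∧ ∃ T ≤ K, P ≤ T ∧ ⁅T, T⁆ ≤ cker ψ ∧ T.relIndex K ≤ d := by
  have h1 := (mem_Chr.1 hψ).1
  have := H5.Cfsg.IsCharacter.charKer_normal h1
  obtain ⟨χ, a1, a2⟩ := H5.Cfsg.IsCharacter.exists_quotient h1 _ le_rfl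
  set f := QuotientGroup.mk' (H5.charKer (rs K ψ))
  have hf' : Function.Surjective f := QuotientGroup.mk'_surjective _
  have h3 : ∀ x : K, f x = 1 ↔ x.1 ∈ cker ψ := fun x => (QuotientGroup.eq_one_iff x).trans
    ((H5.Cfsg.IsCharacter.mem_charKer_iff h1).trans (chr_mem_cker hψ x.2).symm)
  have h4 : FC χ p (deg ψ) := ⟨hp, fun e => hG (e.trans ((card_quotient_dvd_card _).trans
    (card_subgroup_dvd_card K))), mem_Chr_top.2 a1, eq_bot_iff.2 fun q e => by
      obtain ⟨x, rfl⟩ := hf' q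
      exact (h3 x).2 ((chr_mem_cker hψ x.2).2 ((a2 x).symm.trans ((cker_apply e).trans (a2 1)))),
    deg_eq_of_cast ((a2 1).trans (chr_deg hψ :)), fun q => by
      obtain ⟨x, rfl⟩ := hf' q
      exact (a2 (x ^ p)).trans ((hf x x.2).trans (a2 x).symm)⟩
  have h5 : im f K = ⊤ := by simp [im, map_top_of_surjective _ hf']
  obtain ⟨b1, b2, b3, b4⟩ := h4.dd hs h2 hn (h5 ▸ hP.im le_rfl f) (hc.trans_eq (by
    rw [relIndex, show (cker ψ).subgroupOf P = (imHom f hP.le).ker from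
      Subgroup.ext fun x => ((h3 _).symm.trans imHom_eq_one.symm :), index_ker,
      MonoidHom.range_eq_top.2 (imHom_surj _ _), card_top]))
  refine ⟨b1, pre f C(im f P), pre_le _ _, (im_le_iff hP.le).1 b3, fun x e => ?_, ?_⟩
  · have c := (im_le_iff ((der_le _).trans (pre_le _ _))).1 ((im_comm (pre_le _ _) (pre_le _ _)).trans
      (by rw [im_pre hf', comm_iff_der.1 b2])).le e
    obtain ⟨c1, c2⟩ := mem_pre.1 c
    exact (h3 ⟨x, c1⟩).1 c2
  · rwa [relIndex, pre, H1.map_subtype_subgroupOf, index_comap_of_surjective _ hf']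

theorem be : BE.{u} := fun G _ _ χ p a b d s j y h hd hs ha hb hj hy e => by
  have h0 : j ≠ 0 := by rintro rfl; simp at hj
  have py : PiE {s} y := fun q u v => (Nat.prime_dvd_prime_iff_eq u hs.1).1 (hy ▸ v)
  have y1 : y ≠ 1 := fun f => hs.1.ne_one (by rw [← hy, f, orderOf_one])
  obtain ⟨P, hP, yP⟩ := (piG_zpowers.2 py).exists_syl le_top
  have h1 := comm_iff_le_cent.1 (h.ab hs hd le_rfl hP.pi)
  have h2 : P ≤ C[y] := le_cent1_iff.2 (h1 (yP (mem_zpowers y)))
  have yC := zpowers_le.2 (mem_cent1_self y)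
  set ψ := ∑ θ ∈ (Irr C[y]).filter (y ∈ cker ·), dot C[y] χ θ • θ with hψ
  have cf : ψ ∈ CF C[y] := sum_mem fun θ a => Submodule.smul_mem _ _ (H20.irr_cf (Finset.mem_filter.1 a).1)
  have h3 : ∀ θ ∈ Irr C[y], dot C[y] ψ θ = if y ∈ cker θ then dot C[y] χ θ else 0 := fun θ c => by
    rw [hψ, dot_sum_left, Finset.sum_congr rfl fun φ u => by
      rw [dot_smul_left, irr_dot (Finset.mem_filter.1 u).1 c, mul_ite, mul_one, mul_zero]]
    simp [c]
  have h4 : ψ ∈ Chr C[y] := chr_of_dot cf fun θ c => by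
    rw [h3 θ c]
    split_ifs
    exacts [dot_Res_left _ χ θ ▸ chr_dot_nat (chr_Res h.chr le_top) (irr_chr c), ⟨0, by simp⟩]
  have h5 : ∀ g ∈ C[y], ∑ x ∈ fin (zpowers y : Set G), χ (x * g) = #(zpowers y) * ψ g := fun g c => by
    rw [Finset.sum_congr rfl fun x u => apply_eq_sum_irr ((chr_cinv h.chr).mono le_top)
      (mul_mem (yC (mem_fin.1 u)) c), Finset.sum_comm, hψ, Finset.sum_apply, Finset.mul_sum,
      Finset.sum_filter]
    refine Finset.sum_congr rfl fun θ u => ?_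
    rw [← Finset.mul_sum]
    split_ifs with v
    · rw [Finset.sum_congr rfl fun x w => cker_mul (zpowers_le.2 v (mem_fin.1 w)) g, sum_sub_const]
      simp only [nsmul_eq_mul, Pi.smul_apply, smul_eq_mul]; ring
    · rw [irr_sum_coset u ⟨yC, cent1_le_norm_zpowers y⟩ (mt zpowers_le.1 v), mul_zero]
  have h6 : dot (zpowers y) χ (triv (zpowers y)) = deg ψ := by
    rw [dot_triv_right, ← chr_deg h4, inv_mul_eq_iff_eq_mul₀ (cardC_ne _), ← h5 1 (one_mem _)]
    simp only [mul_one]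
  have h7 : ∀ θ ∈ Irr C[y], dot C[y] ψ θ ≠ 0 → y ∈ cker θ ∧ dot C[y] χ θ ≠ 0 := fun θ c => by
    rw [h3 θ c]; simp
  obtain ⟨φ, c1, c2⟩ := chr_exists_constituent h4 fun f => e (by rw [h6, ← chr_deg h4, f]; rfl)
  obtain ⟨c3, T, c4, c5, c6, c7⟩ := dd' h4 h.pp h.cop (fun g c => mul_left_cancel₀ (cardC_ne _) (by
      have co := (h.pp.coprime_iff_not_dvd.2 h.cop).symm
      rw [← h5 _ c, ← h5 _ (pow_mem c p)]
      refine (Finset.sum_equiv (powCoprime co) (fun x => ?_) fun x u => ?_).symm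
      · rw [mem_fin, mem_fin]
        refine ⟨fun u => pow_mem u p, fun u => ?_⟩
        rw [← (powCoprime co).symm_apply_apply x]
        exact zpow_mem u _
      · rw [powCoprime_apply, ← Commute.mul_pow (mem_cent1.1 (le_cent1_iff.2
          (cent_zpowers y ▸ c :) (mem_fin.1 u))), h.fr])) hs hd (by
      obtain ⟨l, hl⟩ := exists_di h.chr h.dg (comm_zpowers y)
      obtain ⟨θ, b1, b2, b3⟩ := exists_not_cker h.chr h.fai (mem_zpowers y) y1
      obtain ⟨O, b4, b5, b6⟩ := h.fam hs b1 b2 (mem_zpowers y) yC py b3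
      have b7 : O.card ≤ (Finset.univ.filter fun j => ¬ l j = 1).card :=
        Finset.card_le_card_of_surjOn (fun j => (l j).fn) fun η u => by
          obtain ⟨i, rfl⟩ := exists_ch_of_lin (irr_lin_of_ab (b4 u) (comm_zpowers y))
          obtain ⟨j, rfl⟩ := hl.mem.1 (b6 _ u).1
          refine ⟨j, Finset.mem_coe.2 (Finset.mem_filter.2 ⟨Finset.mem_univ _, fun v => b3 ?_⟩), rfl⟩
          rw [← (b6 _ u).2.2, v, Ch.fn_one, cker_triv]
          exact mem_zpowers y
      have b8 := hl.dot 1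
      rw [Ch.fn_one, h6, Nat.cast_inj] at b8
      have := Finset.card_filter_add_card_filter_not (s := Finset.univ) fun j => l j = 1
      rw [Finset.card_univ, Fintype.card_fin] at this
      omega) (hP.of_le h2 le_top) (hj.trans_le (Nat.le_of_dvd (relIndex_pos _ _) (by
      rw [← inf_relIndex_right]
      exact h.dvd inf_le_right (triv_ne h.chr c1 (h7 φ c1 c2).2 (le_cker_of_below h4 le_rfl c1 c2
        (inf_le_right.trans h2) inf_le_left)) ha hb ((hs.1.coprime_iff_not_dvd.2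
          (relIndex_top_right P ▸ hP.not_dvd hs.1)).pow_left j))))
  have hT : Ab T := comm_iff_der.2 (le_bot_iff.1 (h.fai ▸ le_cker_of_below' h.chr le_top
    ((der_le T).trans c4) fun θ u v => by
      by_cases w : y ∈ cker θ
      · exact le_cker_of_below h4 le_rfl u (by rwa [h3 θ u, if_pos w]) ((der_le T).trans c4) c6
      refine (der_mono c4).trans ((der_le_cker u).2 ?_)
      have := h.add_le hs u v (mem_cent1_self y) le_rfl py w c1 (h7 φ c1 c2).2
        fun f => w (f ▸ (h7 φ c1 c2).1)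
      have := H20.irr_deg_pos c1
      have := H20.irr_deg_pos u
      have := Nat.lt_of_mul_lt_mul_left (show d * deg θ < d * 2 by omega)
      omega))
  obtain ⟨i, i', d1, d2, d3, -⟩ := h.two hs (by omega) le_rfl hT c5 hP.pi (h.nf hP hs.1
    ((dvd_pow_self s h0).trans ha) ((dvd_pow_self s h0).trans hb))
  have d4 : #T ≤ (2 * d) ^ 2 * kc G := (cls_pair h.chr h.dg hT subset_rfl d1 d2 d3).trans
    (Nat.mul_le_mul_left _ (cls_le _))
  refine (h.cen y d (c3 ▸ h6)).trans (Nat.succ_le_succ ?_)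
  rw [← card_mul_relIndex c4]
  exact (Nat.mul_le_mul_left 2 (Nat.mul_le_mul d4 c7)).trans_eq (by ring)

theorem tb (h2 : D2.{u}) (cy : CY.{u}) (sm : SM.{u}) : TB.{u} :=
  fun G _ _ χ p n a b d s j h hd hn hs hj ha hb => by
  obtain ⟨P, hP⟩ := exists_syl s (⊤ : Subgroup G)
  have h1 := h.nf hP hs.1 ((dvd_pow_self s (by omega)).trans ha) ((dvd_pow_self s (by omega)).trans hb)
  by_cases c : P ⊴ ⊤
  · exact .inl ((al h2 G χ p n d s P h.toFC (by omega) (by omega) (by omega) hs c hP.pi h1).trans_eq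
      (by rw [if_congr (show n < 2 * d ↔ n = d by omega) rfl rfl]))
  refine .inr (or_iff_not_imp_left.2 fun c' => ⟨by_contra fun f => c (H5.FTB.small hs.1 h.chr h.fai
    (by rw [h.dg]; omega) (by rw [h.dg]; omega) hP), by_contra fun f => c ?_⟩)
  rw [not_or, not_le] at f
  have h3 := f.1.trans_le (Nat.le_of_dvd (card_pos P) (hP.dvd (.prime_pow hs.1 j)
    (card_top (G := G) ▸ ha.trans h.da)))
  rcases hn with rfl | rfl
  · exact h.n1 hs (by omega) hP h3
  have h4 := h.ab hs (by omega) le_rfl hP.pi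
  have h5 : ∀ y, orderOf y = s → ∀ K : Subgroup G, ∀ θ ∈ H20.Irr K, dot K χ θ ≠ 0 → y ∉ cker θ := fun y e K θ u v w =>
    c' ⟨rfl, be G χ p a b d s j y h (by omega) hs ha hb (by nlinarith [f.1]) e
      (triv_ne h.chr u v (zpowers_le.2 w))⟩
  obtain ⟨l, hl⟩ := exists_di h.chr h.dg h4
  set i := l ⟨0, by omega⟩
  refine cy G χ s P h.chr h.fai hs.1 hP (isCyclic_of_injective_ringHom ((Units.coeHom ℂ).comp i.hom)
    ((injective_iff_map_eq_one _).2 fun x e => by_contra fun g => ?_)) (fun y u v => ?_) (h.dg ▸ h3)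
  · have x1 : x.1 ∈ cker i.fn := (cker_fn i).2 ⟨x.2, (Ch.fn_of_mem i x.2).trans e⟩
    obtain ⟨z, u, v⟩ := exists_orderOf_eq_prime hs.1 ((hP.pi.of_le (irr_cker_le i.irr)).dvd_of_ne_bot
      (ne_bot_of_mem x1 fun w => g (Subtype.ext w)))
    exact h5 z v P _ i.irr (hl.ne _) u
  refine (sm G χ s _ P h.chr h.fai hs.1 (hP.of_le (le_cent1_iff.2 (comm_iff_le_cent.1 h4 u)) le_top)
    fun θ w w' => ?_).norm
  have h6 := h.mul_le hs w w' (mem_cent1_self y) le_rfl (hP.pi.elt u) (h5 y v _ θ w w')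
  have h7 := Nat.le_of_mul_le_mul_left (h6.trans (mul_comm 2 d).le) (by omega)
  have h8 := hs.lt (by omega) h.pp.pos
  by_contra! g
  obtain rfl : s = 5 := by
    have := hs.1.eq_two_or_odd
    omega
  refine f.2 ⟨?_, rfl, h.hl (by omega) h4 ha hb ((hs.1.coprime_iff_not_dvd.2
    (relIndex_top_right P ▸ hP.not_dvd hs.1)).pow_left j)⟩
  have := hs.dvd (by omega) h.pp.pos
  interval_cases d <;> omega

end H10.PR
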