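import Cfsg.Agent.H10.PR.K4

/-! Dimension at least three. -/

set_option autoImplicit false
set_option linter.unusedSectionVars false

namespace H10.PR
open _root_.Cfsg Subgroup H19 H20 H6 H5.TP H24 H24.NF
open scoped Classical

universe u

variable {G : Type u} [Group G] [Finite G] {χ : G → ℂ} {p n a b d : ℕ}

theorem pw_le {c e q : ℕ} (hq : 2 ^ e ≤ q) (h0 : c * (d + 1) ^ e ≤ q ^ d) (h1 : d ≤ n) :
    c * (n + 1) ^ e ≤ q ^ n := by
  induction n, h1 using Nat.le_induction with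
  | base => exact h0
  | succ n _ ih =>
    calc _ ≤ c * (2 * (n + 1)) ^ e := by gcongr; omega
      _ = c * (n + 1) ^ e * 2 ^ e := by rw [mul_pow]; ring
      _ ≤ _ := pow_succ q n ▸ Nat.mul_le_mul ih hq

theorem pw_lt {c e q k : ℕ} (hq : 2 ^ e ≤ q) (h0 : c * (d + 1) ^ e ≤ q ^ d) (h1 : d < n) (hp : q ≤ p)
    (hc : 2 ≤ c * n ^ e) (hk : 2 * k < p) : c * n ^ e * (2 * k) + 1 < p ^ n := by
  obtain ⟨n, rfl⟩ : ∃ m, n = m + 1 := ⟨n - 1, by omega⟩
  have := (pw_le hq h0 (Nat.le_of_lt_succ h1)).trans (Nat.pow_le_pow_left hp n)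
  rw [pow_succ p]
  nlinarith [Nat.mul_le_mul this hk]

theorem bg0 (tb : TB.{u}) (h : Dat χ p n a b) (hp : 11 ≤ p) (hk : 2 * kc G < p) (hd : 3 ≤ d)
    (hn : n = d ∨ n = 2 * d ∧ 17 ≤ p) {s j : ℕ} (hs : Ppd p d s) (hj : 1 ≤ j) (a1 : s ^ j ∣ a)
    (a2 : s ^ j ∣ b) : s ≤ 2 * n + 1 ∧ (s ^ j ≤ n ^ 2 + 1 ∨ d = 4 ∧ s = 5 ∧ s ^ j ≤ n * kc G) := by
  have h3 := h.size
  refine ((tb G χ p n a b d s j h hd (hn.imp_right And.left) hs hj a1 a2).resolve_left
    fun e => ?_).resolve_left fun e => ?_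
  · rcases hn with rfl | ⟨rfl, h4⟩
    · rw [if_pos rfl] at e
      by_cases c : n = 3
      · subst c
        nlinarith [Nat.mul_le_mul hp hp]
      have : 1 * n ^ 4 * (2 * kc G) + 1 < p ^ n := by
        obtain ⟨n, rfl⟩ : ∃ m, n = m + 1 := ⟨n - 1, by omega⟩
        have a3 : (n + 1) ^ 4 ≤ 11 ^ n := by
          have : 3 ≤ n := by omega
          clear * - this
          induction n, this using Nat.le_induction with
          | base => norm_num
          | succ n a ih =>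
            refine le_trans ?_ (pow_succ 11 n ▸ Nat.mul_le_mul_right 11 ih)
            obtain ⟨m, rfl⟩ := Nat.exists_eq_add_of_le a
            ring_nf
            omega
        have := a3.trans (Nat.pow_le_pow_left hp n)
        have : 2 ≤ (n + 1) ^ 4 := le_trans (by omega) (Nat.le_self_pow four_ne_zero _)
        rw [pow_succ p]
        nlinarith [Nat.mul_le_mul ‹_ ≤ p ^ n› hk]
      linarith
    · rw [if_neg (by omega)] at e
      have := pw_lt (c := 60) (e := 4) (q := 17) (d := 5) (n := 2 * d) (by norm_num) (by norm_num)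
        (by omega) h4 (by have := Nat.le_self_pow four_ne_zero (2 * d); omega) hk
      linarith
  · have := pw_lt (c := 4) (e := 3) (q := 17) (d := 2) (n := d) (by norm_num) (by norm_num) (by omega)
      (by omega : 17 ≤ p) (by have := Nat.le_self_pow three_ne_zero d; omega) hk
    linarith [e.2]

theorem bg1 (nt : NT) (tb : TB.{u}) (h : Dat χ p n a b) (hp : 11 ≤ p) (hk : 2 * kc G < p) (hd : 3 ≤ d)
    (hn : n = d ∨ n = 2 * d ∧ 17 ≤ p)
    (H : ∀ s j, s.Prime → ¬ s ∣ d → s ^ j ∣ cycV d p → s ^ j ∣ a ∧ s ^ j ∣ b) :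
    d = 4 ∧ (p = 13 ∨ p = 47) ∨ d = 6 ∧ (p = 17 ∨ p = 31) := nt p d h.pp hp hd fun s j a1 a2 a3 a4 => by
  obtain ⟨b1, b2⟩ := bg0 tb h hp hk hd hn ⟨a1, prim_of_dvd_cycV (by omega) a1 a2
    ((dvd_pow_self s (by omega)).trans a4)⟩ a3 (H s j a1 a2 a4).1 (H s j a1 a2 a4).2
  have h1 : n ≤ 2 * d := by omega
  refine ⟨by omega, b2.imp (·.trans (by nlinarith)) fun ⟨c1, c2, c3⟩ => ⟨c1, c2, c3.trans ?_⟩⟩
  nlinarith

theorem cyc_dvd (hp : 2 ≤ p) (hd : 0 < d) : cycV (2 * d) p ∣ p ^ d + 1 :=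
  Nat.dvd_of_mul_dvd_mul_left (Nat.sub_pos_of_lt (Nat.one_lt_pow hd.ne' hp)) ((mul_cycV_dvd (by omega)
    (Nat.mem_properDivisors.2 ⟨dvd_mul_left d 2, by omega⟩)).trans (by
      rw [mul_comm 2, pow_mul, mul_comm, ← Nat.sq_sub_sq, one_pow]))

theorem bg (nt : NT) (tb : TB.{u}) : BG.{u} := fun G _ _ χ p n a b h hp hn H => by_contra fun hk => by
  rw [not_le] at hk
  rcases H with ⟨h1, rfl⟩ | ⟨h1, h2, d, rfl, ⟨h3, h4, h5⟩ | ⟨h4, h5⟩⟩
  · have := bg1 nt tb h hp hk hn (.inl rfl) fun s j a1 a2 a3 => and_self_iff.2 (by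
      rcases j.eq_zero_or_pos with rfl | hj
      · exact one_dvd _
      have a4 : Ppd p n s := ⟨a1, prim_of_dvd_cycV (by omega) a1 a2 ((dvd_pow_self s hj.ne').trans a3)⟩
      have a5 := a4.lt (by omega) (by omega)
      refine (((Nat.coprime_primes a1 Nat.prime_two).2 (by omega)).pow_left j).dvd_of_dvd_mul_left
        ((a3.trans (cycV_dvd (by omega))).trans (dvd_of_eq ?_))
      have := h.sum
      omega)
    rw [Nat.odd_iff] at h1
    omega
  · have key := fun m (e : m ∣ p ^ d - 1) => h.hl' (by omega) (e.trans h4) (e.trans h5)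
    have h6 := cycV_dvd (n := d) (by omega : 1 ≤ p)
    rcases bg1 nt tb h hp hk h3 (.inr ⟨rfl, h2⟩) fun s j _ _ e => ⟨(e.trans h6).trans h4,
      (e.trans h6).trans h5⟩ with ⟨rfl, rfl | rfl⟩ | ⟨rfl, rfl | rfl⟩
    · omega
    · have := key (17 * 23) (by norm_num) fun q a b => by
        rcases a.dvd_mul.1 b with e | e <;> rw [(Nat.prime_dvd_prime_iff_eq a (by norm_num)).1 e] <;> omega
      omega
    · have := key 307 (by norm_num) fun q a b => by
        rw [(Nat.prime_dvd_prime_iff_eq a (by norm_num)).1 b]; omega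
      omega
    · have := key 331 (by norm_num) fun q a b => by
        rw [(Nat.prime_dvd_prime_iff_eq a (by norm_num)).1 b]; omega
      omega
  have h6 := cyc_dvd (d := d) (by omega : 2 ≤ p) (by omega)
  have H : ∀ s j, s.Prime → ¬ s ∣ 2 * d → s ^ j ∣ cycV (2 * d) p → s ^ j ∣ a ∧ s ^ j ∣ b :=
    fun s j _ _ e => ⟨(e.trans h6).trans h4, (e.trans h6).trans h5⟩
  have key := fun m (e : m ∣ p ^ d + 1) => h.hl' (by omega) (e.trans h4) (e.trans h5)
  rcases bg1 nt tb h hp hk hn (.inl rfl) H with ⟨e, rfl | rfl⟩ | ⟨e, rfl | rfl⟩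
  · omega
  · obtain rfl : d = 2 := by omega
    have := key (13 * 17) (by norm_num) fun q a b => by
      rcases a.dvd_mul.1 b with e | e <;> rw [(Nat.prime_dvd_prime_iff_eq a (by norm_num)).1 e] <;> omega
    omega
  · obtain rfl : d = 3 := by omega
    exact hk.not_ge (h1.ko17 (.trans (by norm_num) (h4.trans h.da)))
  · obtain rfl : d = 3 := by omega
    exact absurd (bg0 tb h hp hk hn (.inl rfl) (s := 19) ⟨by norm_num, by norm_num, fun i a b => by
      interval_cases i <;> norm_num⟩ le_rfl (.trans (by norm_num) h4) (.trans (by norm_num) h5)).1 (by omega)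

end H10.PR
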