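import Cfsg.Agent.H10.PR.K5

/-! The quasi-primitive case in dimension four; the assembly. -/

set_option autoImplicit false
set_option linter.unusedSectionVars false

namespace H10.PR
open _root_.Cfsg Subgroup H19 H20 H6 H5.TP H24 H24.NF
open scoped Classical

universe u

variable {G : Type u} [Group G] [Finite G] {χ : G → ℂ} {p n a b d ν : ℕ} {x : G}

theorem cen_le (x : G) : center G ≤ C[x] := fun _ e => mem_cent1.2 (mem_center_iff.1 e x).symm

theorem gam_le (h : center G ≠ ⊤) (x : G) : gam #(center G) (center G).index ≤ #C[x] := by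
  unfold gam
  split_ifs with c
  · by_contra! e
    have h4 : 4 ∣ Nat.card G := c.2.trans (index_dvd_card _)
    have h1 : x ≠ 1 := by
      rintro rfl
      rw [cent1_one, card_top] at e
      have := Nat.le_of_dvd Nat.card_pos h4
      omega
    have h2 : orderOf x = 2 := by
      have := Nat.le_of_dvd (card_pos _) (orderOf_dvd_card' (mem_cent1_self x))
      have := orderOf_pos x
      have := mt orderOf_eq_one_iff.1 h1
      omega
    obtain ⟨S, hS, a⟩ := (piG_zpowers.2 (show PiE {2} x from fun q u v =>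
      (Nat.prime_dvd_prime_iff_eq u Nat.prime_two).1 (h2 ▸ v))).exists_syl le_top
    obtain ⟨y, ⟨b1, b2⟩, b3⟩ := exists_ne_one (hS.pi.center_ne_bot (ne_bot_of_mem (a (mem_zpowers x)) h1))
    have h3 : zpowers x = C[x] := eq_of_le_of_card_ge (zpowers_le.2 (mem_cent1_self x))
      (by rw [Nat.card_zpowers]; omega)
    have b4 := eq_zpowers_of_prime (X := C[x]) (by rw [← h3, Nat.card_zpowers, h2]; exact Nat.prime_two)
      (cent_le_cent1 (a (mem_zpowers x)) b2) b3
    have := (Nat.le_of_dvd (card_pos _) (hS.dvd (.prime_pow Nat.prime_two 2) (card_top (G := G) ▸ h4))).trans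
      (card_le ((le_cent1_iff.2 b2).trans (cent1_le_cent1_of_mem_zpowers (b4 ▸ mem_cent1_self x))))
    omega
  · rw [← card_mul_relIndex (cen_le x), mul_comm]
    refine Nat.mul_le_mul_left _ (by_contra fun e => h ?_)
    have := relIndex_pos (center G) C[x]
    have h1 := relIndex_eq_one.1 (show (center G).relIndex C[x] = 1 by omega)
    exact top_le_iff.1 ((cent_eq_top_iff.2 (h1 (mem_cent1_self x))).ge.trans h1)

theorem QP.ne (h : QP χ) (h4 : deg χ = 4) : center G ≠ ⊤ := fun e => by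
  have := (irr_lin_of_ab h.1 (e ▸ inferInstance)).deg
  omega

theorem ok (bd : BD.{u}) (h : QP χ) (h4 : deg χ = 4) (h1 : #(center G) * (ν - 1) ≤
    4 * cls {x : G | ¬ (orderOf (x : G ⧸ center G)).Coprime ν ∧ #(center G) * ν ≤ #C[x]}) :
    Ok #(center G) (center G).index ν (kc G) := by
  have h0 := gam_le (h.ne h4)
  refine ce (fun x : G => if orderOf (x : G ⧸ center G) = 1 then 0 else
    if (orderOf (x : G ⧸ center G)).Coprime ν then (orderOf (x : G ⧸ center G)).minFac else 1)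
    (fun x y e => by rw [orderOf_eq_of_isConj (x := (x : G ⧸ center G)) (y := y)
      ((QuotientGroup.mk' (center G)).map_isConj e)]) _ _ _ (by
      have := card_pos (center G)
      unfold gam; split_ifs <;> omega) h0 (fun _ _ => le_max_left _ _) fun l e => ?_
  simp only [nn, gg, max_le_iff, h0, true_and]
  split_ifs with c0 c1 c2
  · refine le_trans ?_ (cls_mono (S := center G) fun x a => ⟨?_, ?_⟩)
    · refine (card_le_cls (r := 1) fun x a => (Set.ncard_le_ncard (fun y e => e.2)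
        (Set.toFinite _)).trans ((ncard_isConj x).trans_le (cs_eq_one_iff.2 a).le)).trans_eq (one_mul _)
    · rw [if_pos (orderOf_eq_one_iff.2 ((QuotientGroup.eq_one_iff x).2 a)), c0]
    · rw [card_mul_index, cent_eq_top_iff.2 a, card_top]
  · refine (show ∀ k m, k ≤ 4 * m → cd k 4 ≤ m from fun k m e => by unfold cd; omega) _ _
      (h1.trans (Nat.mul_le_mul_left _ (cls_mono fun x a => And.intro ?_ a.2)))
    rw [if_neg fun f => a.1 (by simp [f]), if_neg a.1, c1]
  · exact Nat.zero_le _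
  rw [not_or, not_not] at c2
  have hl : l ∈ ({2, 3, 5, 7} : Finset ℕ) := by simpa [c0, c1] using e
  have hp : l.Prime := by fin_cases hl <;> norm_num
  obtain ⟨A, a1, a2, a3, a4⟩ := (bd G χ h h4).2 l hl c2.2
  have h2 := cls_fact (irr_chr h.1) h.2.1 h4 a2 (Set.sdiff_subset (t := center G))
  rw [Set.ncard_sdiff a1, ncard_sub, ncard_sub] at h2
  refine le_trans ?_ (cls_mono (S := A \ center G) fun x ⟨u, v⟩ => ⟨?_, a4.trans
    (card_le (le_cent1_iff.2 (comm_iff_le_cent.1 a2 u)))⟩)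
  · rw [Nat.mul_sub_one]
    simp only [cd, Nat.factorial] at h2 ⊢
    omega
  obtain ⟨j, e⟩ := a3 x u
  obtain ⟨i, -, b⟩ := (Nat.dvd_prime_pow hp).1 (orderOf_dvd_of_pow_eq_one (x := (x : G ⧸ center G))
    ((QuotientGroup.eq_one_iff (x ^ l ^ j)).2 e))
  have b1 := mt (fun f => (QuotientGroup.eq_one_iff x).1 (orderOf_eq_one_iff.1 f)) v
  rw [if_neg b1, b, if_pos ((hp.coprime_iff_not_dvd.2 c2.1).pow_left i),
    hp.pow_minFac fun f => b1 (by rw [b, f, pow_zero])]

theorem QP.dvd (h : QP χ) (hf : ∀ g, χ (g ^ p) = χ g) (hp : 0 < p) : #(center G) ∣ p - 1 := by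
  obtain ⟨l, a1, -, a2⟩ := irr_Res_central h.1 (le_top (a := center G))
    ((commg_eq_bot.2 fun g _ => mem_cent.2 fun c e => (mem_center_iff.1 e g).symm).le.trans bot_le)
  obtain ⟨i, rfl⟩ := exists_ch_of_lin a1
  have h1 : ∀ x ∈ center G, i.fn x = 1 → x = 1 := fun x u v =>
    mem_bot.1 (h.2.1 ▸ mem_cker.2 fun y => by rw [a2 x u, v, one_mul])
  have := isCyclic_of_injective_ringHom ((Units.coeHom ℂ).comp i.hom)
    ((injective_iff_map_eq_one _).2 fun x e => Subtype.ext (h1 _ x.2 ((Ch.fn_of_mem i x.2).trans e)))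
  rw [← IsCyclic.exponent_eq_card]
  refine Monoid.exponent_dvd_of_forall_pow_eq_one fun x => Subtype.ext (h1 _ (x ^ _).2 ?_)
  have h2 := a2 _ (pow_mem x.2 (p - 1)) x
  rw [← pow_succ, Nat.sub_add_cancel hp, hf, ← mul_one x.1, a2 _ x.2] at h2
  exact mul_right_cancel₀ (mul_ne_zero (i.fn_ne_zero x.2) (irr_one_ne h.1))
    (by rw [one_mul]; simpa using h2.symm)

theorem p4 (fi : FIN) (s7 : S7.{u}) (bd : BD.{u}) : P4.{u} :=
  fun G _ _ χ p a b h hq ⟨x, i, h1, h2⟩ hp ⟨t, ht⟩ ⟨u, hu⟩ => by_contra fun hk => by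
  have h3 := hq.dvd h.fr (by omega)
  have h4 := (center G).card_mul_index
  refine fi p t u _ _ _ hp ?_ h3 (h4 ▸ ht ▸ h.da) (h4 ▸ hu ▸ h.db) (bd G χ hq h.dg).1
    (fun e f => s7 G χ hq h.dg e (f.trans (index_dvd_card _))) (not_le.1 hk)
    (ok bd hq h.dg (by simp)) (ok bd hq h.dg ?_)
  · have h5 := h.sum
    obtain ⟨q, e⟩ : ∃ q, p ^ 2 = q + 1 := ⟨p ^ 2 - 1, by have := Nat.pow_pos (n := 2) (by omega : 0 < p); omega⟩
    rw [ht, hu, show p ^ 4 = (p ^ 2) ^ 2 by ring, e, add_tsub_cancel_right] at h5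
    rw [e]
    exact Nat.eq_of_mul_eq_mul_left (show 0 < q by nlinarith) (by linarith)
  have h5 := Nat.mul_div_cancel' h3
  set z := #(center G)
  have h6 : {w : ℂ | w ^ z = 1} = Polynomial.nthRootsFinset z (1 : ℂ) := Set.ext fun w => by
    exact (Polynomial.mem_nthRootsFinset (card_pos _) _).symm
  have h7 := Set.le_ncard_sdiff {w : ℂ | w ^ z = 1} (i.fn '' zpowers x) (h6 ▸ Finset.finite_toSet _)
  have h8 : {w : ℂ | w ^ z = 1}.ncard ≤ z := by
    rw [h6, Set.ncard_coe_finset]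
    exact (Multiset.toFinset_card_le _).trans (Polynomial.card_nthRoots _ _)
  have h9 := cls_val h.chr h.dg (comm_zpowers x) (S := {y | y ∈ zpowers x ∧ i.fn y ^ z ≠ 1})
    (fun _ => And.left) h1
  rw [Nat.mul_sub_one, h5]
  refine le_trans ((Nat.sub_le_sub_right (h2 ▸ card_img' i) _).trans ((Nat.sub_le_sub_left h8 _).trans
    (h7.trans (Set.ncard_le_ncard ?_ ((Set.toFinite _).image _)))))
    (h9.trans (Nat.mul_le_mul_left _ (cls_mono fun y (⟨u, v⟩ : _ ∧ _) => ⟨fun e => v ?_, ?_⟩)))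
  · rintro _ ⟨⟨y, u, rfl⟩, w⟩
    exact ⟨y, ⟨u, w⟩, rfl⟩
  · refine orderOf_eq_one_iff.1 (Nat.eq_one_of_dvd_coprimes e ?_ ?_) <;>
      rw [orderOf_dvd_iff_pow_eq_one, ← pow_mul]
    · rw [← fn_pow i u, mul_comm, pow_mul, show (y ^ _) ^ z = 1 from orderOf_dvd_iff_pow_eq_one.1
        (orderOf_dvd_card' ((QuotientGroup.eq_one_iff _).1 (pow_orderOf_eq_one (y : G ⧸ center G)))),
        Ch.fn_apply_one]
    · rw [h5, ← h2, i.fn_pow_orderOf u]
  · exact (Nat.le_of_dvd (card_pos _) (h2 ▸ i.orderOf_dvd)).trans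
      (card_le (le_cent1_iff.2 (comm_iff_le_cent.1 (comm_zpowers x) u)))

theorem main (sr : SR.{u}) (l1 : LF1.{u}) (l2 : LF2.{u}) (bg : BG.{u}) (p4 : P4.{u}) (i4 : I4.{u}) :
    Main.{u} := fun G V _ _ p n hp _ _ _ ρ u w H hn => by
  obtain ⟨χ, a1, a2, a3, a4⟩ := l1 G V p ρ H.cop
  have h := l2 G V p n ρ u w χ H a1 a2 a3
  have h1 := (Nat.pow_le_pow_right hp.1.pos hn).trans h.size
  by_cases c : p < 11
  · have h2 := h.pp
    have h3 := two_le_kc (G := G)
    have h4 := three_le_kc (G := G)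
    have h5 := four_le_kc (G := G)
    interval_cases p <;> first | omega | exact absurd h2 (by norm_num)
  rw [not_lt] at c
  rcases sr G V p n ρ u w H (by omega) with e | ⟨⟨g, ω, b1, b2⟩, d, rfl, e⟩
  · exact bg G χ p n _ _ h c (by have := Nat.odd_iff.1 e.1; omega) (.inl e)
  have sc : SC χ p := ⟨g, b1 ▸ a4 g ω u H.u0 b2⟩
  by_cases c1 : p < 17
  · refine sc.ko ?_
    have h2 := h.pp
    interval_cases p <;> first | omega | exact absurd h2 (by norm_num)
  by_cases c2 : d = 1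
  · subst c2
    exact h.n2 sc (by omega)
  by_cases c3 : d = 2 ∧ p ^ d - 1 ∣ (St ρ u).index ∧ p ^ d - 1 ∣ (St ρ w).index
  · obtain ⟨rfl, c3, c4⟩ := c3
    exact (em (QP χ)).elim (fun f => p4 G χ p _ _ h f sc c c3 c4) fun f => i4 G χ p _ _ h f (by omega)
  exact bg G χ p _ _ _ h c (by omega) (.inr ⟨sc, by omega, d, rfl, e.imp_left fun f =>
    ⟨by_contra fun g => c3 ⟨by omega, f⟩, f⟩⟩)

end H10.PR
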